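import Cfsg.Agent.BenderWorld.R1Kill.Good

/-!
# Configurations whose commutator subgroup has a moving centralizer

With no good configuration, `A = [A,v]` maximal has an odd centralizer `C` moving `x`; both the
case that `O_{q'}(C)` moves `x` and the case that it does not end in a kill along a line.
-/

set_option autoImplicit false
set_option linter.style.haveILetI false
set_option linter.unusedSectionVars false

namespace CfsgLib.BenderWorld.R1Kill

open Subgroup CfsgLib.SEmbed CfsgLib.Small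

variable {G : Type*} [Group G] [Finite G] {Ω : Type*} [MulAction G Ω] {q : ℕ}

instance pPrimePCore_characteristic (q : ℕ) (H : Type*) [Group H] :
    (Cfsg.pPrimePCore q H).Characteristic := by
  refine characteristic_iff_map_le.2 fun φ => ?_
  have hO : (Cfsg.pPrimeCore q H).map φ.toMonoidHom = Cfsg.pPrimeCore q H :=
    characteristic_iff_map_eq.1 inferInstance φ
  let e : (H ⧸ Cfsg.pPrimeCore q H) ≃* (H ⧸ Cfsg.pPrimeCore q H) :=
    QuotientGroup.congr _ _ φ hO
  rintro _ ⟨y, hy, rfl⟩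
  have h := mem_map_of_mem e.toMonoidHom (show QuotientGroup.mk' _ y ∈
    Cfsg.pCore q (H ⧸ Cfsg.pPrimeCore q H) from hy)
  rw [CfsgLib.PLocal.map_pCore_equiv] at h
  exact h

/-- `O_{q',q}(C)` as a subgroup of `G`. -/
def layerIn (q : ℕ) (C : Subgroup G) : Subgroup G := (Cfsg.pPrimePCore q ↥C).map C.subtype

theorem layerIn_le (q : ℕ) (C : Subgroup G) : layerIn q C ≤ C := map_subtype_le _

theorem normalizer_le_normalizer_layerIn (q : ℕ) (C : Subgroup G) :
    normalizer (C : Set G) ≤ normalizer (layerIn q C : Set G) :=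
  CfsgLib.Components.normalizer_le_normalizer_map_subtype C _

theorem primeCoreIn_le_layerIn (q : ℕ) (C : Subgroup G) : primeCoreIn q C ≤ layerIn q C :=
  map_mono (CfsgLib.PLocal.pPrimeCore_le_pPrimePCore q ↥C)

/-- A subgroup of `O_{q',q}(C)` is covered by a Sylow `q`-subgroup and `O_{q'}(C)`. -/
theorem exists_cover [Fact q.Prime] {C N Q : Subgroup G} (hN : N ≤ layerIn q C) (hQN : Q ≤ N)
    (hQ : IsPGroup q Q) (hQc : Nat.card Q = q ^ (Nat.card N).factorization q) {g : G}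
    (hg : g ∈ N) : ∃ y ∈ Q, y⁻¹ * g ∈ primeCoreIn q C := by
  have hNC : N ≤ C := hN.trans (layerIn_le q C)
  set O := Cfsg.pPrimeCore q ↥C
  set π := QuotientGroup.mk' O
  set NN := (N.subgroupOf C).map π
  set QQ := (Q.subgroupOf C).map π
  have hQQ : QQ ≤ NN := map_mono fun z hz => hQN hz
  have hNR : NN ≤ Cfsg.pCore q (↥C ⧸ O) := by
    rintro _ ⟨z, hz, rfl⟩
    obtain ⟨w, hw, hwz⟩ := hN hz
    obtain rfl : w = z := Subtype.ext hwz
    exact hw
  have hinj : Function.Injective (π.comp (Q.subgroupOf C).subtype) :=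
    CfsgLib.PLocal.injective_comp_subtype_of_coprime
      (hQ.of_equiv (subgroupOfEquivOfLe (hQN.trans hNC)).symm)
      (by rw [QuotientGroup.ker_mk']; exact CfsgLib.PLocal.coprime_card_pPrimeCore q ↥C)
  have hQQc : Nat.card QQ = Nat.card Q := by
    rw [← Nat.card_congr (subgroupOfEquivOfLe (hQN.trans hNC)).toEquiv,
      ← Nat.card_range_of_injective hinj]
    refine Nat.card_congr (Equiv.setCongr ?_)
    ext z
    exact ⟨fun ⟨w, hw, hwz⟩ => ⟨⟨w, hw⟩, hwz⟩, fun ⟨w, hwz⟩ => ⟨w, w.2, hwz⟩⟩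
  have hle : Nat.card NN ≤ Nat.card QQ := by
    rw [hQQc, hQc]
    obtain ⟨k, hk⟩ :=
      IsPGroup.iff_card.1 ((CfsgLib.PLocal.isPGroup_pCore q (↥C ⧸ O)).to_le hNR)
    have hd : Nat.card NN ∣ Nat.card N := by
      rw [← Nat.card_congr (subgroupOfEquivOfLe hNC).toEquiv]
      exact card_map_dvd _ _
    rw [hk] at hd ⊢
    exact Nat.pow_le_pow_right (Fact.out : q.Prime).pos
      (((Fact.out : q.Prime).pow_dvd_iff_le_factorization Nat.card_pos.ne').1 hd)
  have heq : QQ = NN := eq_of_le_of_card_ge hQQ hle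
  have hmem : π ⟨g, hNC hg⟩ ∈ QQ := heq ▸ ⟨⟨g, hNC hg⟩, hg, rfl⟩
  obtain ⟨y, hy, hyg⟩ := hmem
  exact ⟨y, hy, _, (QuotientGroup.eq (s := O)).1 hyg, rfl⟩

namespace Ctx

variable (c : Ctx G Ω q)
include c

/-- A Sylow `q`-subgroup of a point stabilizer in an `IsR1` local, normalized by the involution. -/
theorem exists_sylow_stab {M : Subgroup G} (hM : IsR1 M) {v : G} {x : Ω}
    (hv : v ∈ invMap (G := G) x x) (hvM : v ∈ M) :
    ∃ P : Subgroup G, P ≤ M ∧ (∀ g ∈ P, g • x = x) ∧ IsPGroup q P ∧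
      v ∈ normalizer (P : Set G) ∧ ∀ R : Subgroup G, IsPGroup q R → R ≤ M →
        (∀ g ∈ R, g • x = x) → Nat.card R ≤ Nat.card P := by
  haveI := Fact.mk c.q_prime
  set O := coreIn M ⊓ MulAction.stabilizer G x with hO
  set V := M ⊓ centralizer ({v} : Set G) with hV
  have hVfix : V ≤ MulAction.stabilizer G x := inf_le_right.trans (centralizer_le_stabilizer c.W.uf hv)
  have hVO : V ≤ normalizer (O : Set G) :=
    (le_inf (inf_le_left.trans (le_normalizer_coreIn M)) (hVfix.trans le_normalizer)).trans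
      inf_normalizer_le_normalizer_inf
  have hOodd : Odd (Nat.card O) := (odd_coreIn M).of_dvd_nat (card_dvd_of_le inf_le_left)
  obtain ⟨P₀⟩ : Nonempty (Sylow q V) := inferInstance
  set Tc := (P₀ : Subgroup V).map V.subtype with hTc
  have hTcV : Tc ≤ V := map_subtype_le _
  have hTcc : Nat.card Tc = q ^ (Nat.card V).factorization q := by
    rw [hTc, card_map_of_injective V.subtype_injective, P₀.card_eq_multiplicity]
  have hFodd : Odd (Nat.card (Tc ⊔ O : Subgroup G)) := by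
    refine ((odd_of_isPGroup c.q_prime c.q_ne (P₀.isPGroup'.map V.subtype)).mul hOodd).of_dvd_nat ?_
    exact Dvd.intro _ (CfsgLib.PLocal.card_sup_mul_card_inf (hTcV.trans hVO))
  have hvO : v ∈ normalizer (O : Set G) :=
    hVO ⟨hvM, mem_centralizer_singleton_iff.2 rfl⟩
  have hvF : v ∈ normalizer ((Tc ⊔ O : Subgroup G) : Set G) := by
    rw [mem_normalizer_iff_map_conj_eq, Subgroup.map_sup]
    refine congr_arg₂ (· ⊔ ·) (mem_normalizer_iff_map_conj_eq.1 ?_)
      (mem_normalizer_iff_map_conj_eq.1 hvO)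
    exact centralizer_mem_normalizer fun t ht =>
      (mem_centralizer_singleton_iff.1 (hTcV ht).2 : t * v = v * t).symm
  obtain ⟨P, -, hPF, hP, hvP, hPc⟩ := exists_sylow_inv (q := q) (U := (⊥ : Subgroup G)) hv.1 hFodd hvF
    bot_le IsPGroup.of_bot (centralizer_mem_normalizer fun t ht => by
      rw [mem_bot] at ht
      exact ht ▸ Commute.one_right v)
  have hFle : Tc ⊔ O ≤ M ⊓ MulAction.stabilizer G x :=
    sup_le (hTcV.trans (le_inf inf_le_left hVfix))
      (le_inf (inf_le_left.trans (coreIn_le M)) inf_le_right)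
  refine ⟨P, fun g hg => (hFle (hPF hg)).1, fun g hg => (hFle (hPF hg)).2, hP, hvP,
    fun R hR hRM hRx => ?_⟩
  rw [hPc]
  have hMx : M ⊓ MulAction.stabilizer G x ≤ V ⊔ O := by
    rintro g ⟨hgM, hgx⟩
    obtain ⟨o, ho, e, heM, hev, rfl⟩ := hM v hvM hv.1 g hgM
    have hex : e • x = x := commute_fix c.W.uf hv.1 hev hv.2
    have hox : o • x = x := by
      have h : (o * e) • x = x := hgx
      rwa [mul_smul, hex] at h
    exact mul_mem (mem_sup_right ⟨ho, hox⟩)
      (mem_sup_left ⟨heM, mem_centralizer_singleton_iff.2 hev.eq⟩)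
  refine (card_le_of_isPGroup ((le_inf hRM hRx).trans hMx) hR).trans
    (Nat.pow_le_pow_right c.q_prime.pos ?_)
  have h1 := congrArg (fun k => k.factorization q) (CfsgLib.PLocal.card_sup_mul_card_inf hVO)
  have h2 := congrArg (fun k => k.factorization q)
    (CfsgLib.PLocal.card_sup_mul_card_inf (hTcV.trans hVO))
  have h3 := CfsgLib.AbelSolvCent.factorization_le_of_le (p := q)
    (inf_le_inf_right O hTcV : Tc ⊓ O ≤ V ⊓ O)
  rw [Nat.factorization_mul Nat.card_pos.ne' Nat.card_pos.ne',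
    Nat.factorization_mul Nat.card_pos.ne' Nat.card_pos.ne', Finsupp.add_apply,
    Finsupp.add_apply] at h1 h2
  rw [hTcc, c.q_prime.factorization_pow, Finsupp.single_eq_same] at h2
  omega

theorem eq_of_max {M P R : Subgroup G} {x : Ω}
    (hmax : ∀ R : Subgroup G, IsPGroup q R → R ≤ M → (∀ g ∈ R, g • x = x) →
      Nat.card R ≤ Nat.card P)
    (hR : IsPGroup q R) (hRM : R ≤ M) (hRx : ∀ g ∈ R, g • x = x) (hPR : P ≤ R) : R = P :=
  (eq_of_le_of_card_ge hPR (hmax R hR hRM hRx)).symm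

/-- A normal `q`-subgroup lies in every Sylow subgroup of the stabilizer. -/
theorem le_of_max {M P A : Subgroup G} {x : Ω}
    (hmax : ∀ R : Subgroup G, IsPGroup q R → R ≤ M → (∀ g ∈ R, g • x = x) →
      Nat.card R ≤ Nat.card P)
    (hP : IsPGroup q P) (hPM : P ≤ M) (hPx : ∀ g ∈ P, g • x = x) (hA : IsPGroup q A)
    (hAM : A ≤ M) (hMA : M ≤ normalizer (A : Set G)) (hAx : ∀ g ∈ A, g • x = x) : A ≤ P := by
  haveI := Fact.mk c.q_prime
  have hsup : IsPGroup q (A ⊔ P : Subgroup G) :=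
    hA.to_sup_of_normal_left' hP (hPM.trans hMA)
  have hx : A ⊔ P ≤ MulAction.stabilizer G x := sup_le hAx hPx
  exact le_sup_left.trans (c.eq_of_max hmax hsup (sup_le hAM hPM) (fun g hg => hx hg) le_sup_right).le

/-- A `q`-subgroup containing `T` and growing inside a group where `T` is the point stabilizer. -/
theorem exists_normalizer_moves {T E : Subgroup G} {x : Ω} (hE : IsPGroup q E) (hTE : T ≤ E)
    (hEx : ∀ g ∈ E, g • x = x → g ∈ T) (hTx : ∀ t ∈ T, t • x = x) (hmov : ∃ g ∈ E, g • x ≠ x) :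
    ∃ g ∈ E, g ∈ normalizer (T : Set G) ∧ g • x ≠ x := by
  haveI := Fact.mk c.q_prime
  have hlt : T < E := lt_of_le_of_ne hTE fun he => by
    obtain ⟨g, hg, hgx⟩ := hmov
    exact hgx (hTx g (he ▸ hg))
  obtain ⟨g, ⟨hgE, hgN⟩, hgT⟩ :=
    SetLike.exists_of_lt (CfsgLib.ConjFunctor.lt_inf_normalizer hE hlt)
  exact ⟨g, hgE, hgN, fun h => hgT (hEx g hgE h)⟩

theorem normalizer_le_normalizer_centralizer (A : Subgroup G) :
    normalizer (A : Set G) ≤ normalizer (centralizer (A : Set G) : Set G) := by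
  intro g hg
  refine mem_normalizer_of_conj fun y hy => mem_centralizer_iff.2 fun a ha => ?_
  have h := mem_centralizer_iff.1 hy _ (conj_normal_mem' hg ha)
  calc a * (g * y * g⁻¹) = g * ((g⁻¹ * a * g) * y) * g⁻¹ := by group
    _ = g * y * g⁻¹ * a := by rw [h]; group

/-- The standing data of the bad case. -/
structure MaxData (A : Subgroup G) (v : G) (x : Ω) : Prop where
  cfg : IsConfig q A v x
  idem : invSub A v = A
  max : ∀ (T : Subgroup G) (v' : G) (x' : Ω), IsConfig q T v' x' → A ≤ invSub T v' →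
    invSub T v' = A
  moves : ∃ g ∈ centralizer (A : Set G), g • x ≠ x
  odd : Odd (Nat.card (centralizer (A : Set G)))

theorem exists_maxData {T : Subgroup G} {v : G} {x : Ω} (hc : IsConfig q T v x) :
    ∃ (A : Subgroup G) (w : G) (y : Ω), MaxData (q := q) A w y := by
  classical
  obtain ⟨A, ⟨T, v, x, hc, rfl⟩, hmax⟩ := Set.exists_max_image
    {A : Subgroup G | ∃ (T : Subgroup G) (w : G) (y : Ω), IsConfig q T w y ∧ invSub T w = A}
    (fun A => Nat.card A) (Set.toFinite _) ⟨_, T, v, x, hc, rfl⟩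
  set A := invSub T v with hA
  have hv := hc.invol
  have hTodd := odd_of_isPGroup c.q_prime c.q_ne hc.isPGroup
  have hvv := mul_self_of_orderOf_two hv.1
  have hne : A ≠ ⊥ := (invSub_ne_bot_iff hTodd hvv hc.normalizes).2 hc.nontriv
  have hvA : v ∈ normalizer (A : Set G) := mem_normalizer_invSub T hc.normalizes
  have hAodd : Odd (Nat.card A) := hTodd.of_dvd_nat (card_dvd_of_le (invSub_le T v))
  have hnt : ∃ a ∈ A, ¬ Commute a v :=
    (invSub_ne_bot_iff hAodd hvv hvA).1 (by rw [hA, invSub_idem]; exact hne)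
  have hmov : ∃ g ∈ centralizer (A : Set G), g • x ≠ x := by
    by_contra hcon
    push Not at hcon
    exact c.not_good hc fun g hg =>
      hcon g (mem_centralizer_iff.2 fun a ha => (hg a ha).eq)
  obtain ⟨g, hg, hgx⟩ := hmov
  have hgM := centralizer_le_normalizer (A : Set G) hg
  refine ⟨A, v, x, ⟨hc.isPGroup.to_le (invSub_le T v), hv, hvA, hnt,
    fun a ha => hc.fixes a (invSub_le T v ha), g, hgM, hgx⟩, invSub_idem T v,
    fun T' v' x' hc' hle => (eq_of_le_of_card_ge hle (hmax _ ⟨T', v', x', hc', rfl⟩)).symm,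
    ⟨g, hg, hgx⟩, ?_⟩
  rw [← Nat.not_even_iff_odd]
  intro he
  obtain ⟨a, ha, hav⟩ := hnt
  have hvC := invol_mem_of_normal c.W.uf (M := normalizer (A : Set G)) (p := v)
    (q := g * v * g⁻¹) (centralizer_le_normalizer _) (normalizer_le_normalizer_centralizer c A)
    hvA (mul_mem (mul_mem hgM hvA) (inv_mem hgM)) hv.1 ((orderOf_conj_eq g v).trans hv.1) hv.2
    (show (g * v * g⁻¹) • g • x = g • x by rw [mul_smul, inv_smul_smul, mul_smul, hv.2])
    (Ne.symm hgx) he hvA hv.1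
  exact hav (mem_centralizer_iff.1 hvC a ha)

variable {A : Subgroup G} {v : G} {x : Ω} (d : MaxData (q := q) A v x)
include d

theorem MaxData.ne_bot : A ≠ ⊥ := c.config_ne_bot d.cfg

theorem MaxData.config {U : Subgroup G} (hU : IsPGroup q U) (hAU : A ≤ U)
    (hvU : v ∈ normalizer (U : Set G)) (hUx : ∀ u ∈ U, u • x = x)
    (hmov : ∃ g ∈ normalizer (U : Set G), g • x ≠ x) :
    IsConfig q U v x ∧ invSub U v = A := by
  obtain ⟨a, ha, hav⟩ := d.cfg.nontriv
  have hc : IsConfig q U v x := ⟨hU, d.cfg.invol, hvU, ⟨a, hAU ha, hav⟩, hUx, hmov⟩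
  refine ⟨hc, d.max U v x hc ?_⟩
  calc A = invSub A v := d.idem.symm
    _ ≤ invSub U v := invSub_mono hAU v

/-- **The case that `O_{q'}(C)` moves `x`.** -/
theorem false_of_primeCore_moves
    (hmov : ∃ g ∈ primeCoreIn q (centralizer (A : Set G)), g • x ≠ x) : False := by
  classical
  haveI := Fact.mk c.q_prime
  set C := centralizer (A : Set G) with hC
  set M := normalizer (A : Set G) with hM
  have hv := d.cfg.invol
  have hvM : v ∈ M := d.cfg.normalizes
  have hCM : C ≤ M := centralizer_le_normalizer _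
  obtain ⟨N, hNO, B⟩ := exists_block (x := x) (N₀ := primeCoreIn q C) (M := M)
    ((primeCoreIn_le q C).trans hCM)
    ((normalizer_le_normalizer_centralizer c A).trans (normalizer_le_normalizer_primeCoreIn q C))
    (d.odd.of_dvd_nat (card_dvd_of_le (primeCoreIn_le q C))) hmov
  have hNC : N ≤ C := hNO.trans (primeCoreIn_le q C)
  obtain ⟨n₀, hn₀, hn₀x⟩ := B.moves
  obtain ⟨U, ⟨hAU, hUM, hU, hUx, hvU, n₁, hn₁, hn₁x, hUn₁⟩, hUmax⟩ := Set.exists_max_image
    {U : Subgroup G | A ≤ U ∧ U ≤ M ∧ IsPGroup q U ∧ (∀ u ∈ U, u • x = x) ∧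
      v ∈ normalizer (U : Set G) ∧ ∃ n ∈ N, n • x ≠ x ∧ ∀ u ∈ U, u • n • x = n • x}
    (fun U => Nat.card U) (Set.toFinite _)
    ⟨A, le_rfl, le_normalizer, d.cfg.isPGroup, d.cfg.fixes, hvM, n₀, hn₀, hn₀x, fun a ha => by
      rw [smul_smul, mem_centralizer_iff.1 (hNC hn₀) a ha, mul_smul, d.cfg.fixes a ha]⟩
  set F := N ⊓ centralizer (U : Set G) with hF
  -- a translation centralizing `U`
  have hcoset : ∀ (W : Subgroup G) (m : G), m ∈ W →
      Nat.card {g : G | g ∈ W ∧ g • x = m • x} =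
        Nat.card ↥(W ⊓ MulAction.stabilizer G x) := by
    intro W m hm
    refine Nat.card_congr
      ⟨fun g => ⟨m⁻¹ * g, mem_inf.2 ⟨mul_mem (inv_mem hm) g.2.1,
          (by rw [mul_smul, g.2.2, inv_smul_smul] : (m⁻¹ * (g : G)) • x = x)⟩⟩,
        fun u => ⟨m * u, mul_mem hm u.2.1,
          (by rw [mul_smul, show (u : G) • x = x from u.2.2] : (m * (u : G)) • x = m • x)⟩,
        fun g => Subtype.ext (mul_inv_cancel_left _ _),
        fun u => Subtype.ext (inv_mul_cancel_left _ _)⟩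
  obtain ⟨n₂, ⟨hn₂, hn₂x⟩, hn₂U⟩ := exists_fixed_conj hU (s := {g : G | g ∈ N ∧ g • x = n₁ • x})
    (by
      rw [hcoset N n₁ hn₁]
      exact fun h => not_dvd_primeCoreIn C (h.trans (card_dvd_of_le (inf_le_left.trans hNO))))
    fun u hu g hg => ⟨conj_normal_mem (B.normal (hUM hu)) hg.1, by
      rw [mul_smul, mul_smul, inv_smul_eq_iff.2 (hUx u hu).symm, hg.2, hUn₁ u hu]⟩
  have hvF : v ∈ normalizer (F : Set G) :=
    inf_normalizer_le_normalizer_inf
      ⟨B.normal hvM, normalizer_le_normalizer_centralizer c U hvU⟩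
  have hFodd : Odd (Nat.card F) := d.odd.of_dvd_nat (card_dvd_of_le (inf_le_left.trans hNC))
  obtain ⟨n, hn, hnv, hnx⟩ := c.exists_inverted_moving hFodd hv hvF
    ⟨n₂, ⟨hn₂, mem_centralizer_iff.2 fun u hu => (hn₂U u hu).eq⟩, hn₂x.trans_ne hn₁x⟩
  obtain ⟨hcfgU, hinvU⟩ := MaxData.config c d hU hAU hvU hUx
    ⟨n, centralizer_le_normalizer _ hn.2, hnx⟩
  refine c.false_of_line hU (c.config_ne_bot hcfgU) hUx hv hvU
    (centralizer_le_normalizer _ hn.2) hnv hnx (odd_orderOf_of_mem hFodd hn) ?_ ?_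
  swap
  · intro m hm hmx g hg hga
    rw [hinvU] at hga
    have hmN : m ∈ N := (zpowers_le.2 hn.1) hm
    exact B.fix_mid (hCM (mem_centralizer_iff.2 fun a ha => (hga a ha).eq)) hmN
      (odd_orderOf_of_mem (d.odd.of_dvd_nat (card_dvd_of_le hNC)) hmN) hg.1 hg.2
  intro m hm hmx R hR hUR hRD
  by_contra hne
  have hlt := CfsgLib.ConjFunctor.lt_inf_normalizer hR (lt_of_le_of_ne hUR (Ne.symm hne))
  obtain ⟨k, hk⟩ := exists_sqrt (m := m) (odd_orderOf_of_mem hFodd ((zpowers_le.2 hn) hm))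
  obtain ⟨r, hrdef⟩ : ∃ r, r = m ^ k := ⟨_, rfl⟩
  rw [← hrdef, sq] at hk
  have hr : r ∈ zpowers n := hrdef ▸ pow_mem hm k
  have hrF : r ∈ F := (zpowers_le.2 hn) hr
  have hrv : v * r * v⁻¹ = r⁻¹ := by
    obtain ⟨j, rfl⟩ := mem_zpowers_iff.1 hr
    rw [← conj_zpow, hnv, inv_zpow]
  obtain ⟨hs, hsx⟩ := c.midpoint hv hrv
  rw [hk] at hsx
  set s := r * v * r⁻¹ with hsdef
  have hrU : ∀ u ∈ U, Commute r u := fun u hu => (mem_centralizer_iff.1 hrF.2 u hu).symm
  have hsU : s ∈ normalizer (U : Set G) :=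
    mul_mem (mul_mem (centralizer_le_normalizer _ hrF.2) hvU)
      (inv_mem (centralizer_le_normalizer _ hrF.2))
  set X := pairStab G x (m • x) ⊓ normalizer (U : Set G) with hX
  have hXodd : Odd (Nat.card X) :=
    (c.odd_pairStab (Ne.symm hmx)).of_dvd_nat (card_dvd_of_le inf_le_left)
  have hsX : s ∈ normalizer (X : Set G) :=
    inf_normalizer_le_normalizer_inf
      ⟨mem_normalizer_pairStab (Or.inr ⟨hsx, smul_back hs.1 hsx⟩), le_normalizer hsU⟩
  obtain ⟨P, hUP, hPX, hP, hsP, hPc⟩ :=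
    exists_sylow_inv hs.1 hXodd hsX (le_inf (hUR.trans hRD) le_normalizer) hU hsU
  have hUP' : Nat.card U < Nat.card P := by
    refine lt_of_lt_of_le ?_ ((card_le_of_isPGroup (F := X)
      (le_inf (inf_le_left.trans hRD) inf_le_right) (hR.to_le inf_le_left)).trans hPc.ge)
    by_contra hge
    exact hlt.ne (eq_of_le_of_card_ge hlt.le (not_lt.1 hge))
  set W := primeCoreIn q (centralizer (U : Set G)) with hW
  have hCU : centralizer (U : Set G) ≤ C := centralizer_le hAU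
  have hFW : F ≤ W := le_primeCoreIn_of_normal inf_le_right
    ((le_inf ((hCU.trans hCM).trans B.normal) le_normalizer).trans
      inf_normalizer_le_normalizer_inf)
    (fun h => not_dvd_primeCoreIn C (h.trans (card_dvd_of_le (inf_le_left.trans hNO))))
  have hUW : normalizer (U : Set G) ≤ normalizer (W : Set G) :=
    (normalizer_le_normalizer_centralizer c U).trans (normalizer_le_normalizer_primeCoreIn q _)
  have hmF : m ∈ F := (zpowers_le.2 hn) hm
  obtain ⟨e₀, ⟨he₀, he₀x⟩, he₀P⟩ := exists_fixed_conj hP (s := {g : G | g ∈ W ∧ g • x = m • x})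
    (by
      rw [hcoset W m (hFW hmF)]
      exact fun h =>
        not_dvd_primeCoreIn (centralizer (U : Set G)) (h.trans (card_dvd_of_le inf_le_left)))
    fun p hp g hg => ⟨conj_normal_mem (hUW (hPX hp).2) hg.1, by
      rw [mul_smul, mul_smul, inv_smul_eq_iff.2 (hPX hp).1.1.symm, hg.2]
      exact (hPX hp).1.2⟩
  set E := W ⊓ centralizer (P : Set G) with hE
  have hsE : s ∈ normalizer (E : Set G) :=
    inf_normalizer_le_normalizer_inf ⟨hUW hsU, normalizer_le_normalizer_centralizer c P hsP⟩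
  have hEodd : Odd (Nat.card E) := d.odd.of_dvd_nat
    (card_dvd_of_le ((inf_le_left.trans (primeCoreIn_le q _)).trans hCU))
  have horb : Odd (Nat.card (MulAction.orbit E x)) :=
    hEodd.of_dvd_nat (by
      rw [Nat.card_congr (MulAction.orbitEquivQuotientStabilizer E x), ← index]
      exact (MulAction.stabilizer E x).index_dvd_card)
  obtain ⟨θ, ⟨e, rfl⟩, hθ⟩ := exists_fixed_of_invol (G := G) (v := s) horb
    (mul_self_of_orderOf_two hs.1) (by
      rintro _ ⟨e, rfl⟩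
      refine ⟨⟨s * (e : G) * s⁻¹ * e₀, mul_mem (conj_normal_mem hsE e.2)
        (mem_inf.2 ⟨he₀, mem_centralizer_iff.2 fun p hp => (he₀P p hp).eq⟩)⟩, ?_⟩
      show (s * (e : G) * s⁻¹ * e₀) • x = s • (e : G) • x
      rw [mul_smul, he₀x, ← hsx, mul_smul, inv_smul_smul, mul_smul])
  have hex : (e : G) • x = r • x := c.W.uf.unique s hs.1 _ _ hθ hs.2
  have hrx : r • x ≠ x := fun h => hmx (by rw [← hk, mul_smul, h, h])
  have hPr : ∀ p ∈ P, p • r • x = r • x := fun p hp => by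
    rw [← hex, smul_smul, mem_centralizer_iff.1 e.2.2 p hp, mul_smul,
      show p • x = x from (hPX hp).1.1]
  have hconj : ∀ a ∈ A, a ∈ invSub P s := fun a ha => by
    have h := conj_invSub (g := r) (T := A) (S := P)
      (fun y hy => by rw [conj_eq_of_commute (hrU y (hAU hy))]; exact hUP (hAU hy))
      (v := v) (d.idem.symm ▸ ha : a ∈ invSub A v)
    rwa [conj_eq_of_commute (hrU a (hAU ha))] at h
  obtain ⟨a₀, ha₀, ha₀v⟩ := d.cfg.nontriv
  have hcP : IsConfig q P s (r • x) := by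
    refine ⟨hP, hs, hsP, ⟨a₀, hUP (hAU ha₀), fun h => ha₀v ?_⟩, hPr, (e : G)⁻¹,
      inv_mem (centralizer_le_normalizer _ e.2.2), ?_⟩
    · have h' : Commute (r⁻¹ * a₀ * r) (r⁻¹ * s * r) := by
        show _ = _
        calc r⁻¹ * a₀ * r * (r⁻¹ * s * r) = r⁻¹ * (a₀ * s) * r := by group
          _ = r⁻¹ * s * r * (r⁻¹ * a₀ * r) := by rw [h.eq]; group
      rwa [show r⁻¹ * s * r = v by rw [hsdef]; group,
        show r⁻¹ * a₀ * r = a₀ by rw [mul_assoc, ← (hrU a₀ (hAU ha₀)).eq, inv_mul_cancel_left]] at h'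
    · rw [← hex, inv_smul_smul]
      exact fun h => hrx (hex ▸ h.symm)
  have hinvP : invSub P s = A := d.max P s (r • x) hcP hconj
  have hPM : P ≤ M := by
    have := le_normalizer_invSub (odd_of_isPGroup c.q_prime c.q_ne hP)
      (mul_self_of_orderOf_two hs.1) hsP
    rwa [hinvP] at this
  have hrM : r ∈ M := B.le hrF.1
  set P' := P.map (MulAut.conj r⁻¹).toMonoidHom with hP'
  have hmem : ∀ p ∈ P', ∃ y ∈ P, p = r⁻¹ * y * r := fun p hp => by
    obtain ⟨y, hy, rfl⟩ := hp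
    exact ⟨y, hy, by show r⁻¹ * y * r⁻¹⁻¹ = _; rw [inv_inv]⟩
  have hUP'' : U ≤ P' := fun u hu => ⟨u, hUP hu, by
    show r⁻¹ * u * r⁻¹⁻¹ = u
    rw [inv_inv, mul_assoc, ← (hrU u hu).eq, inv_mul_cancel_left]⟩
  refine absurd (hUmax P' ⟨hAU.trans hUP'', fun p hp => ?_, hP.map _, fun p hp => ?_, ?_,
    r⁻¹, inv_mem hrF.1, fun h => hrx ?_, fun p hp => ?_⟩) (not_le.2 ?_)
  · obtain ⟨y, hy, rfl⟩ := hmem p hp
    exact mul_mem (mul_mem (inv_mem hrM) (hPM hy)) hrM
  · obtain ⟨y, hy, rfl⟩ := hmem p hp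
    rw [mul_smul, mul_smul, hPr y hy, inv_smul_smul]
  · refine mem_normalizer_of_conj fun p hp => ?_
    obtain ⟨y, hy, rfl⟩ := hmem p hp
    exact ⟨s * y * s⁻¹, conj_normal_mem hsP hy, by
      show r⁻¹ * (s * y * s⁻¹) * r⁻¹⁻¹ = _
      rw [hsdef]; group⟩
  · exact (inv_smul_eq_iff.1 h).symm
  · obtain ⟨y, hy, rfl⟩ := hmem p hp
    rw [mul_smul, mul_smul, smul_inv_smul, show y • x = x from (hPX hy).1.1]
  · rw [hP', Nat.card_congr (P.equivMapOfInjective (MulAut.conj r⁻¹).toMonoidHom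
      (MulAut.conj r⁻¹).injective).toEquiv.symm]
    exact hUP'

/-- `O_{q',q}(C)` moves `x`. -/
theorem layer_moves :
    ∃ g ∈ layerIn q (centralizer (A : Set G)), g • x ≠ x := by
  classical
  by_contra hcon
  push Not at hcon
  haveI := Fact.mk c.q_prime
  set C := centralizer (A : Set G) with hC
  set W := layerIn q C with hW
  have hv := d.cfg.invol
  have hvv := mul_self_of_orderOf_two hv.1
  have hvC : v ∈ normalizer (C : Set G) :=
    normalizer_le_normalizer_centralizer c A d.cfg.normalizes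
  have hvW : v ∈ normalizer (W : Set G) := normalizer_le_normalizer_layerIn q C hvC
  have hWC : W ≤ C := layerIn_le q C
  have hCW : C ≤ normalizer (W : Set G) :=
    le_normalizer.trans (normalizer_le_normalizer_layerIn q C)
  obtain ⟨Q, -, hQW, hQ, hvQ, hQc⟩ := exists_sylow_inv (q := q) (U := (⊥ : Subgroup G)) hv.1
    (d.odd.of_dvd_nat (card_dvd_of_le hWC)) hvW bot_le IsPGroup.of_bot
    (centralizer_mem_normalizer fun t ht => by
      rw [mem_bot] at ht
      exact ht ▸ Commute.one_right v)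
  have hQA : Q ≤ normalizer (A : Set G) := (hQW.trans hWC).trans (centralizer_le_normalizer _)
  -- `[Q,v]` lies in `A`
  have hinv : ∀ y ∈ Q, v * y * v⁻¹ = y⁻¹ → y ∈ A := by
    intro y hy hyv
    have hsupx : A ⊔ Q ≤ MulAction.stabilizer G x :=
      sup_le d.cfg.fixes (fun y hy => hcon y (hQW hy))
    obtain ⟨g, hg, hgx⟩ := d.moves
    obtain ⟨w, hw, hwg⟩ := CfsgLib.AbelSolvCent.exists_mul_normalizer (hCW hg) hQW hQc
    have hmem : w⁻¹ * g ∈ normalizer ((A ⊔ Q : Subgroup G) : Set G) := by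
      rw [mem_normalizer_iff_map_conj_eq, Subgroup.map_sup]
      exact congr_arg₂ (· ⊔ ·) (mem_normalizer_iff_map_conj_eq.1
        (centralizer_le_normalizer _ (mul_mem (inv_mem (hWC hw)) hg)))
        (mem_normalizer_iff_map_conj_eq.1 hwg)
    have hvsup : v ∈ normalizer ((A ⊔ Q : Subgroup G) : Set G) := by
      rw [mem_normalizer_iff_map_conj_eq, Subgroup.map_sup]
      exact congr_arg₂ (· ⊔ ·) (mem_normalizer_iff_map_conj_eq.1 d.cfg.normalizes)
        (mem_normalizer_iff_map_conj_eq.1 hvQ)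
    obtain ⟨-, he⟩ := MaxData.config c d (d.cfg.isPGroup.to_sup_of_normal_left' hQ hQA)
      le_sup_left hvsup (fun u hu => hsupx hu)
      ⟨_, hmem, fun h => hgx (by rw [mul_smul, inv_smul_eq_iff, hcon w hw] at h; exact h)⟩
    exact he ▸ mem_invSub (mem_sup_right hy) hyv
  set O := Cfsg.pPrimeCore q ↥C
  set π := QuotientGroup.mk' O
  set R := Cfsg.pCore q (↥C ⧸ O)
  set Z := (A.subgroupOf C).map π
  have hZc : ∀ z ∈ Z, ∀ u : ↥C ⧸ O, Commute z u := by
    rintro _ ⟨z, hz, rfl⟩ u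
    obtain ⟨w, rfl⟩ := QuotientGroup.mk'_surjective O u
    exact Commute.map (Subtype.ext (mem_centralizer_iff.1 w.2 _ hz) : z * w = w * z) π
  haveI : Z.Normal := ⟨fun z hz u => by
    rwa [← (hZc z hz u).eq, mul_inv_cancel_right]⟩
  have hZp : IsPGroup q Z := (d.cfg.isPGroup.comap_subtype (K := C)).map π
  let σ : ↥C → ↥C := fun z => ⟨v * z * v⁻¹, conj_normal_mem hvC z.2⟩
  -- `v` is trivial on `O_q(C/O)` modulo `Z`
  have hσ : ∀ w : ↥C, (w : G) ∈ W → π (σ w) * (π w)⁻¹ ∈ Z := by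
    intro w hw
    obtain ⟨y, hy, hyw⟩ := exists_cover le_rfl hQW hQ hQc hw
    obtain ⟨i, hi, e, he, hiv, hev, rfl⟩ :=
      exists_decomp (odd_of_isPGroup c.q_prime c.q_ne hQ) hvv hvQ hy
    have hiA := hinv i hi hiv
    have hiC : i ∈ C := hWC (hQW hi)
    have heC : e ∈ C := hWC (hQW he)
    obtain ⟨o, ho, hoeq⟩ := hyw
    have hO' : σ o ∈ O := by
      obtain ⟨o', ho', hoe⟩ :=
        conj_normal_mem (normalizer_le_normalizer_primeCoreIn q C hvC)
          (show (o : G) ∈ primeCoreIn q C from ⟨o, ho, rfl⟩)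
      exact (Subtype.ext hoe : o' = σ o) ▸ ho'
    have hw' : w = ⟨i, hiC⟩ * ⟨e, heC⟩ * o := Subtype.ext (by
      show (w : G) = i * e * o
      rw [show (o : G) = _ from hoeq, mul_inv_cancel_left])
    have hσw : σ w = ⟨i, hiC⟩⁻¹ * ⟨e, heC⟩ * σ o := Subtype.ext (by
      show v * (w : G) * v⁻¹ = i⁻¹ * e * (v * o * v⁻¹)
      rw [hw', ← hiv]
      calc v * (i * e * (o : G)) * v⁻¹ = v * i * v⁻¹ * (v * e * v⁻¹) * (v * o * v⁻¹) := by group
        _ = _ := by rw [conj_eq_of_commute hev.symm])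
    have h1 : π o = 1 := (QuotientGroup.eq_one_iff o).2 ho
    have h2 : π (σ o) = 1 := (QuotientGroup.eq_one_iff _).2 hO'
    rw [hσw, hw', map_mul, map_mul, map_mul, map_mul, h1, h2, mul_one, mul_one, map_inv,
      mul_inv_rev, ← mul_assoc, mul_inv_cancel_right, ← mul_inv_rev]
    exact inv_mem (mul_mem ⟨⟨i, hiC⟩, hiA, rfl⟩ ⟨⟨i, hiC⟩, hiA, rfl⟩)
  -- the stabilizer of the series is a normal `q`-group
  set D := (centralizer (R.map (QuotientGroup.mk' Z) : Set ((↥C ⧸ O) ⧸ Z))).comap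
    (QuotientGroup.mk' Z) with hD
  have hmemD : ∀ u : ↥C ⧸ O, u ∈ D ↔ ∀ r ∈ R, u * r * u⁻¹ * r⁻¹ ∈ Z := by
    intro u
    constructor
    · intro hu r hr
      refine (QuotientGroup.eq_one_iff _).1 ?_
      have := mem_centralizer_iff.1 hu _ ⟨r, hr, rfl⟩
      show QuotientGroup.mk' Z (u * r * u⁻¹ * r⁻¹) = 1
      rw [map_mul, map_mul, map_mul, map_inv, map_inv, ← this]
      group
    · intro hu
      refine mem_centralizer_iff.2 ?_
      rintro _ ⟨r, hr, rfl⟩
      have h1 : QuotientGroup.mk' Z (u * r * u⁻¹ * r⁻¹) = 1 :=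
        (QuotientGroup.eq_one_iff _).2 (hu r hr)
      rw [map_mul, map_mul, map_mul, map_inv, map_inv, mul_inv_eq_one, mul_inv_eq_iff_eq_mul] at h1
      exact h1.symm
  have hcen : centralizer (R : Set (↥C ⧸ O)) ≤ R := by
    haveI : Group.IsSolvable C := CfsgLib.MinNonCA.isSolvable_of_odd C d.odd
    exact CfsgLib.PLocal.centralizer_pCore_le
      (CfsgLib.PLocal.isPSolvable_quotient CfsgLib.PLocal.isPSolvable_of_isSolvable O)
      (CfsgLib.PLocal.pPrimeCore_quotient_pPrimeCore_eq_bot q ↥C)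
  have hDR : D ≤ R := by
    refine CfsgLib.PLocal.le_pCore (CfsgLib.Inv53.isPGroup_of_forall_coprime D fun u hu hco => ?_)
    have huR : u ∈ centralizer (R : Set (↥C ⧸ O)) := by
      refine mem_centralizer_iff.2 fun r hr => ?_
      obtain ⟨z, hzdef⟩ : ∃ z, z = u * r * u⁻¹ * r⁻¹ := ⟨_, rfl⟩
      have hz : z ∈ Z := hzdef ▸ (hmemD u).1 hu r hr
      have hk : ∀ k : ℕ, u ^ k * r * (u ^ k)⁻¹ = z ^ k * r := by
        intro k
        induction k with
        | zero => simp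
        | succ k ih =>
          rw [pow_succ' u, mul_inv_rev, show u * u ^ k * r * ((u ^ k)⁻¹ * u⁻¹) =
            u * (u ^ k * r * (u ^ k)⁻¹) * u⁻¹ by group, ih, ← mul_assoc,
            ← ((hZc z hz u).pow_left k).eq, pow_succ, mul_assoc (z ^ k * u), mul_assoc (z ^ k),
            ← mul_assoc u r, show u * r * u⁻¹ = z * r by rw [hzdef]; group, ← mul_assoc]
      have h1 := hk (orderOf u)
      rw [pow_orderOf_eq_one, one_mul, inv_one, mul_one, right_eq_mul] at h1
      obtain ⟨j, hj⟩ := hZp ⟨z, hz⟩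
      have hj' : z ^ q ^ j = 1 := congrArg Subtype.val hj
      have hz1 : z = 1 := orderOf_eq_one_iff.1 (Nat.eq_one_of_dvd_coprimes
        (hco.pow_right j) (orderOf_dvd_of_pow_eq_one h1) (orderOf_dvd_of_pow_eq_one hj'))
      rw [hzdef, mul_inv_eq_one, mul_inv_eq_iff_eq_mul] at hz1
      exact hz1.symm
    obtain ⟨j, hj⟩ := CfsgLib.PLocal.isPGroup_pCore q _ ⟨u, hcen huR⟩
    have hj' : u ^ q ^ j = 1 := congrArg Subtype.val hj
    exact orderOf_eq_one_iff.1 (Nat.eq_one_of_dvd_coprimes (hco.pow_right j) dvd_rfl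
      (orderOf_dvd_of_pow_eq_one hj'))
  -- inverted elements of `C` lie in `W`
  have hkey : ∀ g ∈ C, v * g * v⁻¹ = g⁻¹ → g ∈ W := by
    intro g hg hgv
    set u : ↥C := ⟨g, hg⟩ with hu
    have hu2 : π (u * u) ∈ D := by
      refine (hmemD _).2 fun r hr => ?_
      obtain ⟨w, rfl⟩ := QuotientGroup.mk'_surjective O r
      have hwW : (w : G) ∈ W := ⟨w, hr, rfl⟩
      have h1 := hσ w hwW
      have h2 := hσ (u * w * u⁻¹) (conj_normal_mem (hCW hg) hwW)
      have hσ' : σ (u * w * u⁻¹) = u⁻¹ * σ w * u := Subtype.ext (by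
        show v * (g * w * g⁻¹) * v⁻¹ = g⁻¹ * (v * w * v⁻¹) * g
        calc v * (g * w * g⁻¹) * v⁻¹ = (v * g * v⁻¹) * (v * w * v⁻¹) * (v * g * v⁻¹)⁻¹ := by group
          _ = _ := by rw [hgv, inv_inv])
      obtain ⟨z₁, hz₁⟩ : ∃ z, z = π (σ w) * (π w)⁻¹ := ⟨_, rfl⟩
      rw [← hz₁] at h1
      have e1 : π (σ w) = z₁ * π w := by rw [hz₁]; group
      rw [hσ', map_mul, map_mul, map_mul, map_mul, map_inv, e1] at h2
      have e2 : (π u)⁻¹ * (z₁ * π w) * π u = z₁ * ((π u)⁻¹ * π w * π u) := by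
        rw [← mul_assoc, ← (hZc z₁ h1 (π u)⁻¹).eq]; group
      rw [e2, mul_assoc] at h2
      have h3 := inv_mem ((Subgroup.mul_mem_cancel_left Z h1).1 h2)
      have h4 := ((inferInstance : Z.Normal).conj_mem _ h3 (π u))
      rw [map_mul]
      convert h4 using 1
      simp only [π]
      group
    have h : π (u * u) ∈ R := hDR hu2
    have h' : g * g ∈ W := ⟨u * u, h, rfl⟩
    obtain ⟨k, hk⟩ := exists_sqrt (odd_orderOf_of_mem d.odd hg)
    rw [← hk, ← pow_mul, mul_comm, pow_mul, sq]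
    exact pow_mem h' k
  obtain ⟨g, hg, hgx⟩ := d.moves
  obtain ⟨w, hw, e, -, hwv, hev, rfl⟩ := exists_decomp d.odd hvv hvC hg
  exact hgx (by rw [mul_smul, commute_fix c.W.uf hv.1 hev hv.2, hcon w (hkey w hw hwv)])

/-- **The case that `O_{q'}(C)` fixes `x`.** -/
theorem false_of_primeCore_fixes
    (hfix : ∀ g ∈ primeCoreIn q (centralizer (A : Set G)), g • x = x) : False := by
  classical
  haveI := Fact.mk c.q_prime
  set C := centralizer (A : Set G) with hC
  set M := normalizer (A : Set G) with hM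
  have hv := d.cfg.invol
  have hvM : v ∈ M := d.cfg.normalizes
  have hCM : C ≤ M := centralizer_le_normalizer _
  have hWodd : Odd (Nat.card (layerIn q C)) := d.odd.of_dvd_nat (card_dvd_of_le (layerIn_le q C))
  obtain ⟨N, hNW, B⟩ := exists_block (x := x) (N₀ := layerIn q C) (M := M)
    ((layerIn_le q C).trans hCM)
    ((normalizer_le_normalizer_centralizer c A).trans (normalizer_le_normalizer_layerIn q C))
    hWodd (c.layer_moves d)
  have hNodd : Odd (Nat.card N) := hWodd.of_dvd_nat (card_dvd_of_le hNW)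
  have hr1 : IsR1 M := c.config_r1 d.cfg
  obtain ⟨T, hTM, hTx, hT, hvT, hTmax⟩ := c.exists_sylow_stab hr1 hv hvM
  have hAT : A ≤ T :=
    c.le_of_max hTmax hT hTM hTx d.cfg.isPGroup le_normalizer le_rfl d.cfg.fixes
  set F := T ⊔ N with hF
  have hTN : T ≤ normalizer (N : Set G) := hTM.trans B.normal
  have hFodd : Odd (Nat.card F) :=
    ((odd_of_isPGroup c.q_prime c.q_ne hT).mul hNodd).of_dvd_nat
      (Dvd.intro _ (CfsgLib.PLocal.card_sup_mul_card_inf hTN))
  have hvF : v ∈ normalizer (F : Set G) := by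
    rw [mem_normalizer_iff_map_conj_eq, Subgroup.map_sup]
    exact congr_arg₂ (· ⊔ ·) (mem_normalizer_iff_map_conj_eq.1 hvT)
      (mem_normalizer_iff_map_conj_eq.1 (B.normal hvM))
  obtain ⟨E, hTE, hEF, hE, hvE, hEc⟩ := exists_sylow_inv hv.1 hFodd hvF le_sup_left hT hvT
  have hFM : F ≤ M := sup_le hTM B.le
  have hEx : ∀ g ∈ E, g • x = x → g ∈ T := fun g hg hgx =>
    (c.eq_of_max hTmax (hE.to_le inf_le_left) ((inf_le_left.trans hEF).trans hFM)
      (fun _ hy => (mem_inf.1 hy).2) (le_inf hTE hTx)).le (⟨hg, hgx⟩ : g ∈ E ⊓ MulAction.stabilizer G x)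
  have hEmov : ∃ g ∈ E, g • x ≠ x := by
    by_contra hcon
    push Not at hcon
    obtain ⟨g, hg, hgx⟩ := B.moves
    have hinf := CfsgLib.AbelSolvCent.card_inf_of_max (E := N) (D := F) (le_sup_right)
      (sup_le hTN le_normalizer) hEF hE fun P hP h1 h2 => eq_of_sylow_card h1 h2 hP hEc
    obtain ⟨y, hy, hyg⟩ := exists_cover hNW inf_le_right (hE.to_le inf_le_left) hinf hg
    have h := hfix _ hyg
    rw [mul_smul, inv_smul_eq_iff, hcon y hy.1] at h
    exact hgx h
  obtain ⟨g, hgE, hgT, hgx⟩ := c.exists_normalizer_moves hE hTE hEx hTx hEmov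
  obtain ⟨hcT, hinvT⟩ := MaxData.config c d hT hAT hvT hTx ⟨g, hgT, hgx⟩
  have hr1T : IsR1 (normalizer (T : Set G)) := c.config_r1 hcT
  -- an inverted translation in `N ∩ N(T)`
  set F₂ := E ⊓ N ⊓ normalizer (T : Set G) with hF₂
  have hFmem : g ∈ N ⊔ T := sup_comm T N ▸ hEF hgE
  obtain ⟨f, hf, t, ht, hft⟩ := CfsgLib.Coprime.exists_mul_of_mem_sup hTN hFmem
  have hf' : f = g * t⁻¹ := by rw [← hft, mul_inv_cancel_right]
  have hfF : f ∈ F₂ := mem_inf.2 ⟨mem_inf.2
    ⟨hf' ▸ mul_mem hgE (inv_mem (hTE ht)), hf⟩, hf' ▸ mul_mem hgT (inv_mem (le_normalizer ht))⟩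
  have hvF₂ : v ∈ normalizer (F₂ : Set G) :=
    inf_normalizer_le_normalizer_inf
      ⟨inf_normalizer_le_normalizer_inf ⟨hvE, B.normal hvM⟩, le_normalizer hvT⟩
  have hfx : f • x ≠ x := fun h => hgx (by rw [← hft, mul_smul, hTx t ht, h])
  obtain ⟨e, he, hev, hex⟩ := c.exists_inverted_moving
    (hNodd.of_dvd_nat (card_dvd_of_le (inf_le_left.trans inf_le_right))) hv hvF₂ ⟨f, hfF, hfx⟩
  have heodd : Odd (orderOf e) := odd_orderOf_of_mem hNodd he.1.2
  -- `T` is the only Sylow subgroup of the stabilizer of `x` in `N(T)`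
  obtain ⟨T', hT'M, hT'x, hT', hvT', hT'max⟩ := c.exists_sylow_stab hr1T hv hvT
  have hTT' : T ≤ T' := c.le_of_max hT'max hT' hT'M hT'x hT le_normalizer le_rfl hTx
  set K := coreIn (normalizer (T : Set G)) with hK
  have hT'K : T' ≤ normalizer (K : Set G) := hT'M.trans (le_normalizer_coreIn _)
  have hF₃odd : Odd (Nat.card (T' ⊔ K : Subgroup G)) :=
    ((odd_of_isPGroup c.q_prime c.q_ne hT').mul (odd_coreIn _)).of_dvd_nat
      (Dvd.intro _ (CfsgLib.PLocal.card_sup_mul_card_inf hT'K))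
  have hvF₃ : v ∈ normalizer ((T' ⊔ K : Subgroup G) : Set G) := by
    rw [mem_normalizer_iff_map_conj_eq, Subgroup.map_sup]
    exact congr_arg₂ (· ⊔ ·) (mem_normalizer_iff_map_conj_eq.1 hvT')
      (mem_normalizer_iff_map_conj_eq.1 (le_normalizer_coreIn _ hvT))
  have heK : e ∈ K := c.inverted_mem_core hr1T hv.1 hvT he.2 hev heodd
  obtain ⟨E₁, hT'E₁, hE₁F, hE₁, hvE₁, hE₁c⟩ :=
    exists_sylow_inv hv.1 hF₃odd hvF₃ le_sup_left hT' hvT'
  have hez : IsPGroup q (zpowers e) := hE.to_le (zpowers_le.2 he.1.1)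
  obtain ⟨E₂, heE₂, hE₂F, -, hvE₂, hE₂c⟩ :=
    exists_sylow_inv (U := zpowers e) hv.1 hF₃odd hvF₃
      (zpowers_le.2 (mem_sup_right heK)) hez (mem_normalizer_of_conj fun y hy => by
        obtain ⟨j, rfl⟩ := mem_zpowers_iff.1 hy
        rw [← conj_zpow, hev, inv_zpow]
        exact inv_mem (zpow_mem (mem_zpowers e) j))
  obtain ⟨a, -, hav, haE⟩ :=
    exists_conj_inv hv.1 hF₃odd hvF₃ hE₁F hE₂F hE₁c hE₂c hvE₁ hvE₂
  have hax : a • x = x := commute_fix c.W.uf hv.1 hav hv.2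
  have hE₁mov : ∃ g ∈ E₁, g • x ≠ x := by
    refine ⟨a * e * a⁻¹, haE ▸ ⟨e, heE₂ (mem_zpowers e), rfl⟩, fun h => hex ?_⟩
    rw [mul_smul, mul_smul, inv_smul_eq_iff.2 hax.symm] at h
    exact smul_left_cancel a (h.trans hax.symm)
  have hE₁x : ∀ g ∈ E₁, g • x = x → g ∈ T' := fun g hg hgx =>
    (c.eq_of_max hT'max (hE₁.to_le inf_le_left)
      ((inf_le_left.trans hE₁F).trans (sup_le hT'M (coreIn_le _)))
      (fun _ hy => (mem_inf.1 hy).2) (le_inf hT'E₁ hT'x)).le (⟨hg, hgx⟩ : g ∈ E₁ ⊓ MulAction.stabilizer G x)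
  obtain ⟨g', -, hg'T, hg'x⟩ := c.exists_normalizer_moves hE₁ hT'E₁ hE₁x hT'x hE₁mov
  obtain ⟨-, hinvT'⟩ := MaxData.config c d hT' (hAT.trans hTT') hvT' hT'x ⟨g', hg'T, hg'x⟩
  have hT'A : T' ≤ M := by
    have := le_normalizer_invSub (odd_of_isPGroup c.q_prime c.q_ne hT')
      (mul_self_of_orderOf_two hv.1) hvT'
    rwa [hinvT'] at this
  have hTeq : T' = T := c.eq_of_max hTmax hT' hT'A hT'x hTT'
  rw [hTeq] at hT'max
  refine c.false_of_line hT (c.config_ne_bot hcT) hTx hv hvT he.2 hev hex heodd ?_ ?_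
  · intro m _ _ R hR hTR hRD
    by_contra hne
    have hlt := CfsgLib.ConjFunctor.lt_inf_normalizer hR (lt_of_le_of_ne hTR (Ne.symm hne))
    exact hlt.ne (c.eq_of_max hT'max (hR.to_le inf_le_left) inf_le_right
      (fun y hy => (hRD hy.1).1) hlt.le).symm
  · intro m hm _ g hg hga
    rw [hinvT] at hga
    have hmN : m ∈ N := (zpowers_le.2 he.1.2) hm
    exact B.fix_mid (hCM (mem_centralizer_iff.2 fun a ha => (hga a ha).eq)) hmN
      (odd_orderOf_of_mem hNodd hmN) hg.1 hg.2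

end Ctx

end CfsgLib.BenderWorld.R1Kill
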