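import Cfsg.Agent.Coprime.Action
import Cfsg.Agent.SEmbed.Counting
import Cfsg.Agent.AbelSolvCent.Sylows
import Cfsg.Agent.MinNonCA.Basic

/-!
# An involution acting on groups of odd order

`invSub T v` is the subgroup generated by the elements of `T` inverted by `v`; it is `[T,v]` when
`T` has odd order and is normalized by `v`.  The other lemmas are the coprime action facts used by
the configuration argument, written elementwise.
-/

set_option autoImplicit false
set_option linter.style.haveILetI false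
set_option linter.unusedSectionVars false

namespace CfsgLib.BenderWorld.R1Kill

open Subgroup CfsgLib.SEmbed CfsgLib.Small

variable {G : Type*} [Group G]

/-- The subgroup generated by the elements of `T` inverted by `v`. -/
def invSub (T : Subgroup G) (v : G) : Subgroup G :=
  closure {t | t ∈ T ∧ v * t * v⁻¹ = t⁻¹}

variable {T : Subgroup G} {v : G}

theorem invSub_le (T : Subgroup G) (v : G) : invSub T v ≤ T :=
  (closure_le _).2 fun _ ht => ht.1

theorem mem_invSub {t : G} (ht : t ∈ T) (hv : v * t * v⁻¹ = t⁻¹) : t ∈ invSub T v :=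
  subset_closure ⟨ht, hv⟩

theorem invSub_mono {S : Subgroup G} (h : T ≤ S) (v : G) : invSub T v ≤ invSub S v :=
  closure_mono fun _ ht => ⟨h ht.1, ht.2⟩

theorem invSub_idem (T : Subgroup G) (v : G) : invSub (invSub T v) v = invSub T v :=
  le_antisymm (invSub_le _ _) ((closure_le _).2 fun _ ht => mem_invSub (subset_closure ht) ht.2)

/-- `invSub` commutes with conjugation. -/
theorem conj_invSub {g t : G} {S : Subgroup G} (hS : ∀ x ∈ T, g * x * g⁻¹ ∈ S)
    (ht : t ∈ invSub T v) : g * t * g⁻¹ ∈ invSub S (g * v * g⁻¹) := by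
  induction ht using closure_induction with
  | mem x hx =>
    refine mem_invSub (hS x hx.1) ?_
    calc g * v * g⁻¹ * (g * x * g⁻¹) * (g * v * g⁻¹)⁻¹ = g * (v * x * v⁻¹) * g⁻¹ := by group
      _ = (g * x * g⁻¹)⁻¹ := by rw [hx.2]; group
  | one => rw [mul_one, mul_inv_cancel]; exact one_mem _
  | mul a b _ _ ha hb =>
    rw [show g * (a * b) * g⁻¹ = g * a * g⁻¹ * (g * b * g⁻¹) by group]
    exact mul_mem ha hb
  | inv a _ ha =>
    rw [show g * a⁻¹ * g⁻¹ = (g * a * g⁻¹)⁻¹ by group]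
    exact inv_mem ha

/-- An element fixed by conjugation commutes. -/
theorem commute_of_conj_eq {g x : G} (h : g * x * g⁻¹ = x) : Commute g x :=
  mul_inv_eq_iff_eq_mul.1 h

theorem conj_eq_of_commute {g x : G} (h : Commute g x) : g * x * g⁻¹ = x :=
  mul_inv_eq_iff_eq_mul.2 h.eq

theorem odd_orderOf_of_mem [Finite G] {H : Subgroup G} (h : Odd (Nat.card H)) {x : G}
    (hx : x ∈ H) : Odd (orderOf x) :=
  h.of_dvd_nat (orderOf_dvd_natCard H hx)

/-- A square root inside the cyclic group of an element of odd order. -/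
theorem exists_sqrt {m : G} (hm : Odd (orderOf m)) : ∃ k : ℕ, (m ^ k) ^ 2 = m := by
  obtain ⟨j, hj⟩ := hm
  refine ⟨j + 1, ?_⟩
  rw [← pow_mul, show (j + 1) * 2 = (2 * j + 1) + 1 by ring, pow_succ, ← hj, pow_orderOf_eq_one,
    one_mul]

theorem conj_pow_inv {d : G} (hd : v * d * v⁻¹ = d⁻¹) (k : ℕ) :
    v * d ^ k * v⁻¹ = (d ^ k)⁻¹ := by
  rw [← conj_pow, hd, inv_pow]

variable [Finite G]

theorem conj_normal_mem {H : Subgroup G} {g x : G} (hg : g ∈ normalizer (H : Set G)) (hx : x ∈ H) :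
    g * x * g⁻¹ ∈ H :=
  (mem_normalizer_iff.1 hg x).1 hx

theorem conj_normal_mem' {H : Subgroup G} {g x : G} (hg : g ∈ normalizer (H : Set G))
    (hx : x ∈ H) : g⁻¹ * x * g ∈ H := by
  simpa using conj_normal_mem (inv_mem hg) hx

theorem mem_normalizer_of_conj {H : Subgroup G} {g : G} (h : ∀ x ∈ H, g * x * g⁻¹ ∈ H) :
    g ∈ normalizer (H : Set G) :=
  CfsgLib.ConjFunctor.mem_normalizer_of_forall_conj_mem h

theorem centralizer_mem_normalizer {H : Subgroup G} {g : G} (h : ∀ x ∈ H, Commute g x) :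
    g ∈ normalizer (H : Set G) :=
  mem_normalizer_of_conj fun x hx => by rwa [conj_eq_of_commute (h x hx)]

/-- `T = (inverted elements) C_T(v)`. -/
theorem exists_decomp (hT : Odd (Nat.card T)) (hv : v * v = 1)
    (hvT : v ∈ normalizer (T : Set G)) {t : G} (ht : t ∈ T) :
    ∃ w ∈ T, ∃ c ∈ T, v * w * v⁻¹ = w⁻¹ ∧ Commute c v ∧ t = w * c := by
  have hvi : v⁻¹ = v := inv_eq_of_mul_eq_one_right hv
  obtain ⟨u, hu⟩ : ∃ u, u = t * (v * t⁻¹ * v⁻¹) := ⟨_, rfl⟩
  have huT : u ∈ T := hu ▸ mul_mem ht (conj_normal_mem hvT (inv_mem ht))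
  have hconj : v * u * v⁻¹ = u⁻¹ := by
    rw [hu, hvi]
    calc v * (t * (v * t⁻¹ * v)) * v = v * t * v * t⁻¹ * (v * v) := by group
      _ = (t * (v⁻¹ * t⁻¹ * v⁻¹))⁻¹ := by rw [hv, mul_one]; group
      _ = _ := by rw [hvi]
  obtain ⟨k, hk⟩ := exists_sqrt (odd_orderOf_of_mem hT huT)
  obtain ⟨w, hw⟩ : ∃ w, w = u ^ k := ⟨_, rfl⟩
  rw [← hw] at hk
  have hwinv : v * w * v⁻¹ = w⁻¹ := hw ▸ conj_pow_inv hconj k
  refine ⟨w, hw ▸ pow_mem huT k, w⁻¹ * t, mul_mem (inv_mem (hw ▸ pow_mem huT k)) ht, hwinv,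
    (commute_of_conj_eq ?_).symm, by group⟩
  have h1 : v * t * v⁻¹ = u⁻¹ * t := by
    rw [hu, mul_inv_rev, mul_inv_rev, mul_inv_rev, inv_inv, inv_inv, hvi]
    group
  calc v * (w⁻¹ * t) * v⁻¹ = (v * w * v⁻¹)⁻¹ * (v * t * v⁻¹) := by group
    _ = w * ((w ^ 2)⁻¹ * t) := by rw [hwinv, inv_inv, h1, hk]
    _ = w⁻¹ * t := by group

theorem le_normalizer_invSub (hT : Odd (Nat.card T)) (hv : v * v = 1)
    (hvT : v ∈ normalizer (T : Set G)) : T ≤ normalizer (invSub T v : Set G) := by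
  intro t ht
  obtain ⟨w, hw, c, hc, hwv, hcv, rfl⟩ := exists_decomp hT hv hvT ht
  refine mul_mem (le_normalizer (mem_invSub hw hwv)) (mem_normalizer_of_conj fun x hx => ?_)
  have := conj_invSub (g := c) (S := T) (fun y hy => mul_mem (mul_mem hc hy) (inv_mem hc)) hx
  rwa [conj_eq_of_commute hcv] at this

theorem mem_normalizer_invSub (T : Subgroup G) (hvT : v ∈ normalizer (T : Set G)) :
    v ∈ normalizer (invSub T v : Set G) := by
  refine mem_normalizer_of_conj fun x hx => ?_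
  have := conj_invSub (g := v) (S := T) (fun y hy => conj_normal_mem hvT hy) hx
  rwa [mul_inv_cancel_right] at this

theorem invSub_ne_bot_iff (hT : Odd (Nat.card T)) (hv : v * v = 1)
    (hvT : v ∈ normalizer (T : Set G)) : invSub T v ≠ ⊥ ↔ ∃ x ∈ T, ¬ Commute x v := by
  constructor
  · intro h
    by_contra hc
    push Not at hc
    refine h (le_bot_iff.1 ((closure_le _).2 fun t ht => ?_))
    have h1 : t * t = 1 := by
      have := ht.2
      rw [conj_eq_of_commute (hc t ht.1).symm] at this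
      exact mul_eq_one_iff_eq_inv.2 this
    obtain ⟨k, hk⟩ := exists_sqrt (odd_orderOf_of_mem hT ht.1)
    have : t = 1 := by
      rw [← hk, sq, ← pow_add, ← two_mul, pow_mul, sq, h1, one_pow]
    exact this ▸ one_mem _
  · rintro ⟨x, hx, hxv⟩ h
    obtain ⟨w, hw, c, hc, hwv, hcv, rfl⟩ := exists_decomp hT hv hvT hx
    have := mem_invSub hw hwv
    rw [h, mem_bot] at this
    exact hxv (by rw [this, one_mul]; exact hcv)

/-- An involution permuting a set of odd size fixes one of its elements. -/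
theorem exists_fixed_of_invol {α : Type*} [MulAction G α] {s : Set α} (hs : Odd (Nat.card s))
    (hv : v * v = 1) (h : ∀ x ∈ s, v • x ∈ s) : ∃ x ∈ s, v • x = x := by
  classical
  haveI : Finite s := Nat.finite_of_card_ne_zero fun h0 => by simp [h0] at hs
  haveI := Fintype.ofFinite s
  let f : s → s := fun x => ⟨v • (x : α), h x x.2⟩
  have hf : Function.Involutive f := fun x =>
    Subtype.ext (by show v • v • (x : α) = x; rw [smul_smul, hv, one_smul])
  haveI : Fact (Nat.Prime 2) := ⟨Nat.prime_two⟩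
  obtain ⟨x, hx⟩ := Equiv.Perm.exists_fixed_point_of_prime (p := 2) (n := 1)
    (σ := hf.toPerm f) (by rw [← Nat.card_eq_fintype_card]; exact hs.not_two_dvd_nat)
    (by ext y; simp [sq, hf y])
  exact ⟨x, x.2, congrArg Subtype.val hx⟩

/-- A conjugation-invariant coset contains an element commuting with `v`. -/
theorem exists_fixed_coset {U : Subgroup G} (hU : Odd (Nat.card U)) (hv : v * v = 1) {k : G}
    (h : ∀ u ∈ U, k⁻¹ * (v * (k * u) * v⁻¹) ∈ U) : ∃ u ∈ U, Commute (k * u) v := by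
  letI : MulAction G G := MulAction.compHom _ (MulAut.conj : G →* MulAut G)
  have hc : Nat.card {x : G | k⁻¹ * x ∈ U} = Nat.card U :=
    Nat.card_congr ⟨fun x => ⟨_, x.2⟩,
      fun u => ⟨k * u, by rw [Set.mem_ofPred_eq, inv_mul_cancel_left]; exact u.2⟩,
      fun x => Subtype.ext (mul_inv_cancel_left _ _), fun u => Subtype.ext (inv_mul_cancel_left _ _)⟩
  obtain ⟨x, hx, hxv⟩ := exists_fixed_of_invol (G := G) (v := v) (s := {x : G | k⁻¹ * x ∈ U})
    (hc ▸ hU) hv fun x hx => by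
      have := h _ hx
      rw [mul_inv_cancel_left] at this
      exact this
  refine ⟨_, hx, ?_⟩
  rw [mul_inv_cancel_left]
  exact (commute_of_conj_eq (show v * x * v⁻¹ = x from hxv)).symm

/-- A `q`-group acting on a set of size prime to `q` by conjugation fixes one of its elements. -/
theorem exists_fixed_conj {q : ℕ} [Fact q.Prime] {P : Subgroup G} (hP : IsPGroup q P) {s : Set G}
    (hs : ¬ q ∣ Nat.card s) (h : ∀ g ∈ P, ∀ x ∈ s, g * x * g⁻¹ ∈ s) :
    ∃ x ∈ s, ∀ g ∈ P, Commute g x := by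
  letI : MulAction P s :=
    { smul := fun g x => ⟨g * x * (g : G)⁻¹, h g g.2 x x.2⟩
      one_smul := fun x => Subtype.ext (show ((1 : P) : G) * x * ((1 : P) : G)⁻¹ = x by simp)
      mul_smul := fun a b x => Subtype.ext (show ((a * b : P) : G) * x * ((a * b : P) : G)⁻¹ =
        a * (b * x * (b : G)⁻¹) * (a : G)⁻¹ by simp [mul_assoc]) }
  obtain ⟨x, hx⟩ := hP.nonempty_fixed_point_of_prime_not_dvd_card s hs
  exact ⟨x, x.2, fun g hg => commute_of_conj_eq (congrArg Subtype.val (hx ⟨g, hg⟩))⟩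

/-- An invariant Sylow subgroup of an odd group, above a given invariant `q`-subgroup. -/
theorem exists_sylow_inv {q : ℕ} [Fact q.Prime] {F U : Subgroup G} (hvo : orderOf v = 2)
    (hF : Odd (Nat.card F)) (hvF : v ∈ normalizer (F : Set G)) (hUF : U ≤ F) (hU : IsPGroup q U)
    (hvU : v ∈ normalizer (U : Set G)) :
    ∃ P : Subgroup G, U ≤ P ∧ P ≤ F ∧ IsPGroup q P ∧ v ∈ normalizer (P : Set G) ∧
      Nat.card P = q ^ (Nat.card F).factorization q := by
  have hcop : (Nat.card (zpowers v)).Coprime (Nat.card F) := by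
    rw [Nat.card_zpowers, hvo]; exact Nat.coprime_two_left.2 hF
  obtain ⟨P, hUP, hP⟩ := CfsgLib.Coprime.exists_invariant_sylow_ge (zpowers_le.2 hvF) hcop
    (Or.inr (CfsgLib.MinNonCA.isSolvable_of_odd F hF)) hUF hU (zpowers_le.2 hvU)
  exact ⟨_, hUP, map_subtype_le _, P.isPGroup'.map _, hP (mem_zpowers v), by
    rw [card_map_of_injective F.subtype_injective, P.card_eq_multiplicity]⟩

theorem card_le_of_isPGroup {q : ℕ} [Fact q.Prime] {F R : Subgroup G} (hRF : R ≤ F)
    (hR : IsPGroup q R) : Nat.card R ≤ q ^ (Nat.card F).factorization q := by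
  obtain ⟨k, hk⟩ := IsPGroup.iff_card.1 hR
  rw [hk]
  refine Nat.pow_le_pow_right (Fact.out : q.Prime).pos ?_
  have := CfsgLib.AbelSolvCent.factorization_le_of_le (p := q) hRF
  rwa [hk, (Fact.out : q.Prime).factorization_pow, Finsupp.single_eq_same] at this

theorem eq_of_sylow_card {q : ℕ} [Fact q.Prime] {F P R : Subgroup G} (hPR : P ≤ R) (hRF : R ≤ F)
    (hR : IsPGroup q R) (hP : Nat.card P = q ^ (Nat.card F).factorization q) : R = P :=
  (eq_of_le_of_card_ge hPR (hP ▸ card_le_of_isPGroup hRF hR)).symm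

/-- Two invariant Sylow subgroups of an odd group are conjugate by a fixed element. -/
theorem exists_conj_inv {q : ℕ} [Fact q.Prime] {F P Q : Subgroup G} (hvo : orderOf v = 2)
    (hF : Odd (Nat.card F)) (hvF : v ∈ normalizer (F : Set G)) (hPF : P ≤ F) (hQF : Q ≤ F)
    (hP : Nat.card P = q ^ (Nat.card F).factorization q)
    (hQ : Nat.card Q = q ^ (Nat.card F).factorization q)
    (hvP : v ∈ normalizer (P : Set G)) (hvQ : v ∈ normalizer (Q : Set G)) :
    ∃ c ∈ F, Commute c v ∧ Q.map (MulAut.conj c).toMonoidHom = P := by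
  have hcop : (Nat.card (zpowers v)).Coprime (Nat.card F) := by
    rw [Nat.card_zpowers, hvo]; exact Nat.coprime_two_left.2 hF
  obtain ⟨l, hl, hle⟩ := CfsgLib.AbelSolvCent.exists_conj_of_card_eq hPF hQF hP hQ
  obtain ⟨c, hc, hcQ⟩ := CfsgLib.Coprime.exists_conj_eq_of_invariant (zpowers_le.2 hvF) hcop
    (Or.inr (CfsgLib.MinNonCA.isSolvable_of_odd F hF)) (zpowers_le.2 hvQ) (zpowers_le.2 hvP) hl hle
  exact ⟨c, hc.1, (mem_centralizer_iff.1 hc.2 v (mem_zpowers v)).symm, hcQ⟩

end CfsgLib.BenderWorld.R1Kill
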