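import Cfsg.Agent.BenderWorld.R1Kill.Line

/-!
# Good configurations

A configuration `(T, v, x)` is good if the centralizer of `[T,v]` fixes `x`.  There is none.
-/

set_option autoImplicit false
set_option linter.style.haveILetI false
set_option linter.unusedSectionVars false

namespace CfsgLib.BenderWorld.R1Kill

open Subgroup CfsgLib.SEmbed CfsgLib.Small

variable {G : Type*} [Group G] [Finite G] {Ω : Type*} [MulAction G Ω] {q : ℕ}

/-- `N` acts as an abelian group at `x`, and `M` normalizes it. -/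
structure Block (M N : Subgroup G) (x : Ω) : Prop where
  le : N ≤ M
  normal : M ≤ normalizer (N : Set G)
  moves : ∃ g ∈ N, g • x ≠ x
  comm : ∀ a ∈ N, ∀ b ∈ N, (a * b) • x = (b * a) • x

/-- A normal subgroup of odd order moving `x` contains one that is abelian at `x`. -/
theorem exists_block {M N₀ : Subgroup G} {x : Ω} (hle : N₀ ≤ M)
    (hnorm : M ≤ normalizer (N₀ : Set G)) (hodd : Odd (Nat.card N₀))
    (hmov : ∃ g ∈ N₀, g • x ≠ x) : ∃ N ≤ N₀, Block M N x := by
  obtain ⟨N, ⟨hN0, hMN, hNx⟩, hmin⟩ := Set.exists_min_image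
    {N : Subgroup G | N ≤ N₀ ∧ M ≤ normalizer (N : Set G) ∧ ∃ g ∈ N, g • x ≠ x}
    (fun N => Nat.card N) (Set.toFinite _) ⟨N₀, le_rfl, hnorm, hmov⟩
  refine ⟨N, hN0, hN0.trans hle, hMN, hNx, ?_⟩
  have hconj : M ≤ normalizer ((⁅N, N⁆ : Subgroup G) : Set G) := fun g hg => by
    have h := mem_normalizer_iff_map_conj_eq.1 (hMN hg)
    rw [mem_normalizer_iff_map_conj_eq, map_commutator, h]
  have hle' : ⁅N, N⁆ ≤ N := commutator_le.2 fun a ha b hb => by
    rw [commutatorElement_def]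
    exact mul_mem (mul_mem (mul_mem ha hb) (inv_mem ha)) (inv_mem hb)
  have hfix : ∀ g ∈ ⁅N, N⁆, g • x = x := by
    by_contra hc
    push Not at hc
    haveI : Group.IsSolvable N :=
      CfsgLib.MinNonCA.isSolvable_of_odd N (hodd.of_dvd_nat (card_dvd_of_le hN0))
    haveI : Nontrivial N := (nontrivial_iff_ne_bot N).2 fun h => by
      obtain ⟨g, hg, hgx⟩ := hNx
      rw [h, mem_bot] at hg
      exact hgx (by rw [hg, one_smul])
    have he : ⁅N, N⁆ = N :=
      eq_of_le_of_card_ge hle' (hmin _ ⟨hle'.trans hN0, hconj, hc⟩)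
    refine (Group.IsSolvable.commutator_lt_top_of_nontrivial N).ne ?_
    apply map_injective N.subtype_injective
    rw [map_subtype_commutator, ← MonoidHom.range_eq_map, range_subtype]
    exact he
  intro a ha b hb
  have h1 : (b * a)⁻¹ * (a * b) ∈ ⁅N, N⁆ := by
    have := commutator_mem_commutator (inv_mem ha) (inv_mem hb)
    simpa [commutatorElement_def, mul_assoc] using this
  calc (a * b) • x = (b * a) • ((b * a)⁻¹ * (a * b)) • x := by rw [smul_smul, mul_inv_cancel_left]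
    _ = (b * a) • x := by rw [hfix _ h1]

namespace Block

variable {M N : Subgroup G} {x : Ω} (B : Block M N x)
include B

theorem fix_zpow {g m : G} (hg : g ∈ M) (hgx : g • x = x) (hm : m ∈ N)
    (h : g • m • x = m • x) : ∀ z ∈ zpowers m, g • z • x = z • x := by
  intro z hz
  rw [← mem_powers_iff_mem_zpowers] at hz
  obtain ⟨k, rfl⟩ := hz
  obtain ⟨a, ha⟩ : ∃ a, a = g * m * g⁻¹ := ⟨_, rfl⟩
  have haN : a ∈ N := ha ▸ conj_normal_mem (B.normal hg) hm
  have hgi : g⁻¹ • x = x := inv_smul_eq_iff.2 hgx.symm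
  have hak : ∀ k : ℕ, g • (m ^ k) • x = (a ^ k) • x := fun k => by
    rw [ha, conj_pow, mul_smul, mul_smul, hgi]
  have hax : a • x = m • x := by
    have := hak 1
    rw [pow_one, pow_one, h] at this
    exact this.symm
  show g • (m ^ k) • x = (m ^ k) • x
  rw [hak]
  induction k with
  | zero => simp
  | succ k ih =>
    rw [pow_succ' a, mul_smul, ih, ← mul_smul, B.comm a haN _ (pow_mem hm k), mul_smul, hax,
      ← mul_smul, ← pow_succ]

/-- An element fixing two points of `x^N` symmetric about `x` fixes `x`. -/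
theorem fix_mid {g m : G} (hg : g ∈ M) (hm : m ∈ N) (hodd : Odd (orderOf m))
    (h1 : g • m⁻¹ • x = m⁻¹ • x) (h2 : g • m • x = m • x) : g • x = x := by
  have hmM := B.le hm
  obtain ⟨k, hk⟩ := exists_sqrt hodd
  have h3 := B.fix_zpow (g := m * g * m⁻¹) (mul_mem (mul_mem hmM hg) (inv_mem hmM))
    (by rw [mul_smul, mul_smul, h1, smul_inv_smul]) (pow_mem hm 2)
    (by rw [sq, mul_smul, mul_smul, mul_smul, inv_smul_smul, h2]) m
    (by
      have : (m ^ 2) ^ k = m := by rw [← pow_mul, mul_comm, pow_mul, hk]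
      exact mem_zpowers_iff.2 ⟨k, by rw [zpow_natCast, this]⟩)
  rw [mul_smul, mul_smul, inv_smul_smul, smul_left_cancel_iff] at h3
  exact h3

end Block

/-- `C([T,v])` fixes `x`. -/
def IsGood (T : Subgroup G) (v : G) (x : Ω) : Prop :=
  ∀ g : G, (∀ a ∈ invSub T v, Commute a g) → g • x = x

namespace Ctx

variable (c : Ctx G Ω q)
include c

theorem config_ne_bot {T : Subgroup G} {v : G} {x : Ω} (hc : IsConfig q T v x) : T ≠ ⊥ := by
  obtain ⟨t, ht, htv⟩ := hc.nontriv
  rintro rfl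
  rw [mem_bot] at ht
  exact htv (ht ▸ Commute.one_left v)

theorem config_r1 {T : Subgroup G} {v : G} {x : Ω} (hc : IsConfig q T v x) :
    IsR1 (normalizer (T : Set G)) := by
  refine c.r1 (c.normalizer_ne_top (c.config_ne_bot hc) hc.fixes) hc.invol hc.normalizes hc.moves ?_
  obtain ⟨t, ht, htv⟩ := hc.nontriv
  exact ⟨t, le_coreIn le_normalizer le_rfl (odd_of_isPGroup c.q_prime c.q_ne hc.isPGroup) ht, htv⟩

/-- **No good configuration.** -/
theorem not_good {T : Subgroup G} {v : G} {x : Ω} (hc : IsConfig q T v x) :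
    ¬ IsGood T v x := by
  intro hgood
  classical
  haveI := Fact.mk c.q_prime
  obtain ⟨T, ⟨v, x, hc, hgood⟩, hmax⟩ := Set.exists_max_image
    {T : Subgroup G | ∃ (v : G) (x : Ω), IsConfig q T v x ∧ IsGood T v x}
    (fun T => Nat.card T) (Set.toFinite _) ⟨T, v, x, hc, hgood⟩
  have hr1 := c.config_r1 hc
  set M := normalizer (T : Set G) with hM
  have hv := hc.invol
  have hvM : v ∈ M := hc.normalizes
  obtain ⟨N, hNle, B⟩ := exists_block (x := x) (coreIn_le M) (le_normalizer_coreIn M) (odd_coreIn M)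
    (c.core_moves hr1 hv hvM hc.moves)
  have hNodd : Odd (Nat.card N) := (odd_coreIn M).of_dvd_nat (card_dvd_of_le hNle)
  obtain ⟨n, hn, hnv, hnx⟩ := c.exists_inverted_moving hNodd hv (B.normal hvM) B.moves
  refine c.false_of_line hc.isPGroup (c.config_ne_bot hc) hc.fixes hv hvM (B.le hn) hnv hnx
    (odd_orderOf_of_mem hNodd hn) ?_ fun m _ _ g _ hga => hgood g hga
  intro m hm hmx R hR hTR hRD
  have hmN : m ∈ N := (zpowers_le.2 hn) hm
  by_contra hne
  have hlt := CfsgLib.ConjFunctor.lt_inf_normalizer hR (lt_of_le_of_ne hTR (Ne.symm hne))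
  set F := M ⊓ pairStab G x (m • x) with hF
  have hFodd : Odd (Nat.card F) :=
    (c.odd_pairStab (Ne.symm hmx)).of_dvd_nat (card_dvd_of_le inf_le_right)
  have hvm : v * m * v⁻¹ = m⁻¹ := by
    obtain ⟨k, rfl⟩ := mem_zpowers_iff.1 hm
    rw [← conj_zpow, hnv, inv_zpow]
  have hFm : ∀ g ∈ F, g • m⁻¹ • x = m⁻¹ • x := fun g hg =>
    B.fix_zpow hg.1 hg.2.1 hmN hg.2.2 _ (inv_mem (mem_zpowers m))
  have hvF : v ∈ normalizer (F : Set G) := by
    refine mem_normalizer_of_conj fun g hg => mem_inf.2 ⟨mul_mem (mul_mem hvM hg.1) (inv_mem hvM),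
      mem_pairStab.2 ⟨conj_fix ?_, conj_fix ?_⟩⟩
    · rw [inv_smul_eq_iff.2 hv.2.symm]; exact hg.2.1
    · rw [inv_eq_self_of_orderOf_two hv.1, c.invert_smul hv hvm]; exact hFm g hg
  have hTF : T ≤ F := le_inf le_normalizer (hTR.trans hRD)
  obtain ⟨P, hTP, hPF, hP, hvP, hPc⟩ :=
    exists_sylow_inv hv.1 hFodd hvF hTF hc.isPGroup hc.normalizes
  have hcard : Nat.card T < Nat.card P := by
    refine lt_of_lt_of_le ?_ ((card_le_of_isPGroup (F := F)
      (le_inf inf_le_right (inf_le_left.trans hRD)) (hR.to_le inf_le_left)).trans hPc.ge)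
    by_contra hge
    exact hlt.ne (eq_of_le_of_card_ge hlt.le (not_lt.1 hge))
  have hmF : m ∈ normalizer (F : Set G) := by
    refine mem_normalizer_of_conj fun g hg => mem_inf.2 ⟨mul_mem (mul_mem (B.le hmN) hg.1)
      (inv_mem (B.le hmN)), mem_pairStab.2 ⟨conj_fix (hFm g hg), conj_fix ?_⟩⟩
    rw [inv_smul_smul]
    exact hg.2.1
  obtain ⟨e, he, hen⟩ := CfsgLib.AbelSolvCent.exists_mul_normalizer hmF hPF hPc
  refine absurd (hmax P ⟨v, x, ⟨hP, hv, hvP, ?_, fun y hy => (hPF hy).2.1, _, hen, ?_⟩,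
    fun g hg => hgood g fun a ha => hg a (invSub_mono hTP v ha)⟩) (not_le.2 hcard)
  · obtain ⟨t, ht, htv⟩ := hc.nontriv
    exact ⟨t, hTP ht, htv⟩
  · rw [mul_smul, inv_smul_eq_iff.2 he.2.2.symm]
    exact hmx

end Ctx

end CfsgLib.BenderWorld.R1Kill
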