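import Cfsg.Agent.BenderWorld.R1Kill.Coprime
import Cfsg.Agent.SEmbed.Elementary

/-!
# Groups of odd order under an involution fixing one point

`le_stab_of_fixed` (Glauberman's generation lemma in the form used here), `le_primeCoreIn` (a
`q'`-subgroup normalized by a Sylow `q`-subgroup lies in the `q'`-core) and the ZJ theorem for
groups of odd order.
-/

set_option autoImplicit false
set_option linter.style.haveILetI false
set_option linter.unusedSectionVars false

namespace CfsgLib.BenderWorld.R1Kill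

open Subgroup CfsgLib.SEmbed CfsgLib.Small
open scoped commutatorElement

variable {G : Type*} [Group G]

/-- `O_{q'}(D)` as a subgroup of `G`. -/
def primeCoreIn (q : ℕ) (D : Subgroup G) : Subgroup G := (Cfsg.pPrimeCore q ↥D).map D.subtype

theorem primeCoreIn_le (q : ℕ) (D : Subgroup G) : primeCoreIn q D ≤ D := map_subtype_le _

variable [Finite G]

theorem normalizer_le_normalizer_primeCoreIn (q : ℕ) (D : Subgroup G) :
    normalizer (D : Set G) ≤ normalizer (primeCoreIn q D : Set G) :=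
  CfsgLib.Components.normalizer_le_normalizer_map_subtype D _

theorem le_normalizer_primeCoreIn (q : ℕ) (D : Subgroup G) :
    D ≤ normalizer (primeCoreIn q D : Set G) :=
  le_normalizer.trans (normalizer_le_normalizer_primeCoreIn q D)

theorem not_dvd_primeCoreIn {q : ℕ} [Fact q.Prime] (D : Subgroup G) :
    ¬ q ∣ Nat.card (primeCoreIn q D) := by
  rw [primeCoreIn, card_map_of_injective D.subtype_injective]
  exact CfsgLib.PLocal.not_dvd_iff_coprime.1 (CfsgLib.PLocal.coprime_card_pPrimeCore q ↥D)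

theorem le_primeCoreIn_of_normal {q : ℕ} [Fact q.Prime] {D N : Subgroup G} (hND : N ≤ D)
    (hDN : D ≤ normalizer (N : Set G)) (hN : ¬ q ∣ Nat.card N) : N ≤ primeCoreIn q D := by
  haveI : (N.subgroupOf D).Normal := (normal_subgroupOf_iff_le_normalizer hND).2 hDN
  have h1 : N.subgroupOf D ≤ Cfsg.pPrimeCore q ↥D := CfsgLib.PLocal.le_pPrimeCore (by
    rw [Nat.card_congr (subgroupOfEquivOfLe hND).toEquiv]
    exact CfsgLib.PLocal.not_dvd_iff_coprime.2 hN)
  intro x hx
  exact ⟨⟨x, hND hx⟩, h1 hx, rfl⟩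

/-- Conjugation moves the `q'`-core of a subgroup to that of its conjugate. -/
theorem conj_mem_primeCoreIn {q : ℕ} [Fact q.Prime] {D E : Subgroup G} {g : G}
    (hDE : D.map (MulAut.conj g).toMonoidHom = E) {x : G} (hx : x ∈ primeCoreIn q D) :
    g * x * g⁻¹ ∈ primeCoreIn q E := by
  subst hDE
  refine le_primeCoreIn_of_normal (map_mono (primeCoreIn_le q D)) ?_ ?_ ⟨x, hx, rfl⟩
  · exact (map_mono (le_normalizer_primeCoreIn q D)).trans (le_normalizer_map _)
  · rw [card_map_of_injective (MulAut.conj g).injective]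
    exact not_dvd_primeCoreIn D

theorem card_primeCoreIn_conj {q : ℕ} [Fact q.Prime] {D E : Subgroup G} {g : G}
    (hDE : D.map (MulAut.conj g).toMonoidHom = E) :
    Nat.card (primeCoreIn q D) ≤ Nat.card (primeCoreIn q E) := by
  rw [Nat.card_congr ((primeCoreIn q D).equivMapOfInjective (MulAut.conj g).toMonoidHom
    (MulAut.conj g).injective).toEquiv]
  refine card_le_of_le ?_
  rintro _ ⟨x, hx, rfl⟩
  exact conj_mem_primeCoreIn hDE hx

/-- In a group of odd order a `q'`-subgroup normalized by a Sylow `q`-subgroup lies in the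
`q'`-core. -/
theorem le_primeCoreIn {q : ℕ} [Fact q.Prime] {D T X : Subgroup G} (hD : Odd (Nat.card D))
    (hTD : T ≤ D) (hT : IsPGroup q T)
    (hmax : ∀ R : Subgroup G, IsPGroup q R → T ≤ R → R ≤ D → R = T)
    (hXD : X ≤ D) (hTX : T ≤ normalizer (X : Set G)) (hX : ¬ q ∣ Nat.card X) :
    X ≤ primeCoreIn q D := by
  haveI : Group.IsSolvable D := CfsgLib.MinNonCA.isSolvable_of_odd D hD
  set O := Cfsg.pPrimeCore q ↥D
  set π := QuotientGroup.mk' O
  set R := Cfsg.pCore q (↥D ⧸ O)
  have hC : centralizer (R : Set (↥D ⧸ O)) ≤ R := CfsgLib.PLocal.centralizer_pCore_le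
    (CfsgLib.PLocal.isPSolvable_quotient CfsgLib.PLocal.isPSolvable_of_isSolvable O)
    (CfsgLib.PLocal.pPrimeCore_quotient_pPrimeCore_eq_bot q ↥D)
  let P : Sylow q ↥D :=
    { toSubgroup := T.subgroupOf D
      isPGroup' := hT.of_equiv (subgroupOfEquivOfLe hTD).symm
      is_maximal' := fun {Q} hQ hle => by
        have h := hmax (Q.map D.subtype) (hQ.map _)
          (fun t ht => ⟨⟨t, hTD ht⟩, hle ht, rfl⟩) (map_subtype_le _)
        ext y
        constructor
        · intro hy
          show (y : G) ∈ T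
          exact h ▸ mem_map_of_mem D.subtype hy
        · exact fun hy => hle hy }
  have hRT : R ≤ (T.subgroupOf D).map π :=
    CfsgLib.PLocal.pCore_le_sylow (P.mapSurjective (QuotientGroup.mk'_surjective O))
  set X' := (X.subgroupOf D).map π
  have hX' : (Nat.card X').Coprime q := by
    refine Nat.Coprime.coprime_dvd_left (card_map_dvd _ _) ?_
    rw [Nat.card_congr (subgroupOfEquivOfLe hXD).toEquiv]
    exact CfsgLib.PLocal.not_dvd_iff_coprime.2 hX
  have hRX : X' ≤ R := by
    refine le_trans (fun y hy => mem_centralizer_iff.2 fun r hr => ?_) hC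
    obtain ⟨t, ht, rfl⟩ := hRT hr
    obtain ⟨z, hz, rfl⟩ := hy
    have h1 : π t * π z * (π t)⁻¹ * (π z)⁻¹ ∈ R ⊓ X' := by
      refine ⟨?_, ?_⟩
      · rw [mul_assoc, mul_assoc, ← mul_assoc (π z)]
        exact mul_mem hr ((inferInstance : R.Normal).conj_mem _ (inv_mem hr) _)
      · refine ⟨t * z * t⁻¹ * z⁻¹, ?_, by simp [map_mul, map_inv]⟩
        show ((t * z * t⁻¹ * z⁻¹ : ↥D) : G) ∈ X
        exact mul_mem (conj_normal_mem (hTX ht) hz) (inv_mem hz)
    rw [(CfsgLib.PLocal.disjoint_of_isPGroup_of_coprime (CfsgLib.PLocal.isPGroup_pCore q _) hX'),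
      mem_bot, mul_inv_eq_one, mul_inv_eq_iff_eq_mul] at h1
    exact h1
  have h2 : X' ≤ ⊥ := by
    rw [← CfsgLib.PLocal.disjoint_of_isPGroup_of_coprime
      (CfsgLib.PLocal.isPGroup_pCore q (↥D ⧸ O)) hX']
    exact le_inf hRX le_rfl
  intro x hx
  refine ⟨⟨x, hXD hx⟩, ?_, rfl⟩
  exact (QuotientGroup.eq_one_iff (N := O) _).1
    (mem_bot.1 (h2 ⟨⟨x, hXD hx⟩, hx, rfl⟩))

/-- Glauberman's ZJ theorem in a group of odd order with trivial `q'`-core. -/
theorem le_normalizer_zj {q : ℕ} [Fact q.Prime] (hq : q ≠ 2) {D T : Subgroup G}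
    (hD : Odd (Nat.card D)) (hTD : T ≤ D) (hT : IsPGroup q T)
    (hmax : ∀ R : Subgroup G, IsPGroup q R → T ≤ R → R ≤ D → R = T)
    (hO : primeCoreIn q D = ⊥) :
    D ≤ normalizer (Cfsg.centerThompsonAOf T : Set G) := by
  haveI : Group.IsSolvable D := CfsgLib.MinNonCA.isSolvable_of_odd D hD
  haveI : Fact (Nat.Prime 2) := ⟨Nat.prime_two⟩
  have hc : Nat.card (T.subgroupOf D) = q ^ (Nat.card D).factorization q := by
    rw [Nat.card_congr (subgroupOfEquivOfLe hTD).toEquiv,
      CfsgLib.AbelSolvCent.card_of_max hTD hT hmax]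
  let P : Sylow q ↥D := Sylow.ofCard _ hc
  have hns : ¬ CfsgLib.PLocal.HasSL2Section q (⊤ : Subgroup ↥D) := by
    refine CfsgLib.PLocal.not_hasSL2Section_of_abelian_sylow_two hq fun S => ?_
    have h1 : Nat.card (S : Subgroup (⊤ : Subgroup ↥D)) = 1 := by
      rw [S.card_eq_multiplicity, card_top, Nat.factorization_eq_zero_of_not_dvd
        hD.not_two_dvd_nat, pow_zero]
    haveI := (Nat.card_eq_one_iff_unique.1 h1).1
    exact ⟨⟨fun a b => Subsingleton.elim _ _⟩⟩
  have hfac := CfsgLib.AbelSolvCent.zj_factor hq hns P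
  have hO' : Cfsg.pPrimeCore q ↥D = ⊥ :=
    (map_eq_bot_iff_of_injective _ D.subtype_injective).1 hO
  rw [hO', bot_sup_eq] at hfac
  intro d hd
  have h1 : (⟨d, hd⟩ : ↥D) ∈
      normalizer (Cfsg.centerThompsonAOf (P : Subgroup ↥D) : Set ↥D) := hfac ▸ mem_top _
  have h2 := (le_normalizer_map D.subtype) (mem_map_of_mem D.subtype h1)
  rw [CfsgLib.PLocal.map_centerThompsonAOf D.subtype_injective,
    show (P : Subgroup ↥D) = T.subgroupOf D from rfl, subgroupOf_map_subtype,
    inf_eq_left.2 hTD] at h2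
  exact h2

variable {Ω : Type*} [MulAction G Ω] (h : UniqueFix G Ω)
include h

/-- A solvable `q'`-group `S` normalized by a `q`-group `T` and by an involution `v` normalizing
`T`, both at `x`, fixes `x` if `C_S([T,v])` does. -/
theorem le_stab_of_fixed {q : ℕ} [Fact q.Prime] {T : Subgroup G} {v : G} {x : Ω}
    (hv : v ∈ invMap (G := G) x x) (hT : IsPGroup q T) (hTodd : Odd (Nat.card T))
    (hTx : ∀ t ∈ T, t • x = x) :
    ∀ S : Subgroup G, Odd (Nat.card S) → ¬ q ∣ Nat.card S → v ∈ normalizer (S : Set G) →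
      T ≤ normalizer (S : Set G) →
      (∀ g ∈ S, (∀ a ∈ invSub T v, Commute a g) → g • x = x) → ∀ g ∈ S, g • x = x := by
  intro S
  induction hn : Nat.card S using Nat.strong_induction_on generalizing S with
  | _ n ih =>
    subst hn
    intro hS hSq hvS hTS hfix g hg
    rcases eq_or_ne S ⊥ with hbot | hbot
    · rw [hbot, mem_bot] at hg
      rw [hg, one_smul]
    set S1 := ⁅S, S⁆ with hS1
    have hS1le : S1 ≤ S := commutator_le.2 fun a ha b hb => by
      rw [commutatorElement_def]
      exact mul_mem (mul_mem (mul_mem ha hb) (inv_mem ha)) (inv_mem hb)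
    have hS1conj : ∀ s : G, s ∈ normalizer (S : Set G) → s ∈ normalizer (S1 : Set G) := by
      intro s hs
      rw [mem_normalizer_iff_map_conj_eq] at hs ⊢
      rw [hS1, map_commutator, hs]
    have hlt : Nat.card S1 < Nat.card S := by
      haveI : Group.IsSolvable S := CfsgLib.MinNonCA.isSolvable_of_odd S hS
      haveI : Nontrivial S := (nontrivial_iff_ne_bot S).2 hbot
      refine lt_of_le_of_ne (card_le_of_le hS1le) fun he => ?_
      have he' : S1 = S := eq_of_le_of_card_ge hS1le he.ge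
      refine (Group.IsSolvable.commutator_lt_top_of_nontrivial S).ne ?_
      apply map_injective S.subtype_injective
      rw [map_subtype_commutator, ← MonoidHom.range_eq_map, range_subtype]
      exact he'
    have hS1x : ∀ y ∈ S1, y • x = x := ih _ hlt S1 rfl (hS.of_dvd_nat (card_dvd_of_le hS1le))
      (fun hd => hSq (hd.trans (card_dvd_of_le hS1le))) (hS1conj v hvS)
      (fun t ht => hS1conj t (hTS ht)) fun y hy => hfix y (hS1le hy)
    set U := S ⊓ MulAction.stabilizer G x with hU
    have hUodd : Odd (Nat.card U) := hS.of_dvd_nat (card_dvd_of_le inf_le_left)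
    -- an involution at `x` normalizing `S` inverts `S` modulo `U`
    have key : ∀ s ∈ invMap (G := G) x x, s ∈ normalizer (S : Set G) →
        ∀ y ∈ S, y * (s * y * s⁻¹) ∈ U := by
      intro s hs hsS y hy
      have hss := mul_self_of_orderOf_two hs.1
      have hz : y * (s * y * s⁻¹) ∈ S := mul_mem hy (conj_normal_mem hsS hy)
      have hsU : ∀ u ∈ U, s * u * s⁻¹ ∈ U := fun u hu =>
        ⟨conj_normal_mem hsS hu.1, by
          show (s * u * s⁻¹) • x = x
          rw [inv_eq_self_of_orderOf_two hs.1, mul_smul, mul_smul, hs.2,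
            show u • x = x from hu.2, hs.2]⟩
      obtain ⟨u, hu, hcomm⟩ := exists_fixed_coset (k := y * (s * y * s⁻¹)) hUodd hss fun u hu => by
        have h1 : (y * (s * y * s⁻¹))⁻¹ * (s * (y * (s * y * s⁻¹)) * s⁻¹) ∈ U := by
          have hc : ⁅(s * y * s⁻¹)⁻¹, y⁻¹⁆ ∈ S1 :=
            commutator_mem_commutator (inv_mem (conj_normal_mem hsS hy)) (inv_mem hy)
          refine mem_inf.2 ⟨mul_mem (inv_mem hz) (conj_normal_mem hsS hz), ?_⟩
          show _ • x = x
          rw [show (y * (s * y * s⁻¹))⁻¹ * (s * (y * (s * y * s⁻¹)) * s⁻¹) =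
            (s * y * s⁻¹)⁻¹ * y⁻¹ * (s * y * s⁻¹) * ((s * s) * y * (s * s)⁻¹) by group, hss]
          rw [commutatorElement_def, inv_inv, inv_inv] at hc
          simpa using hS1x _ hc
        rw [show (y * (s * y * s⁻¹))⁻¹ * (s * (y * (s * y * s⁻¹) * u) * s⁻¹) =
          (y * (s * y * s⁻¹))⁻¹ * (s * (y * (s * y * s⁻¹)) * s⁻¹) * (s * u * s⁻¹) by group]
        exact mul_mem h1 (hsU u hu)
      have h2 := commute_fix h hs.1 hcomm hs.2
      rw [mul_smul, show u • x = x from hu.2] at h2
      exact ⟨hz, h2⟩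
    have hTU : ∀ a ∈ T, ∀ u ∈ U, a * u * a⁻¹ ∈ U := fun a ha u hu =>
      ⟨conj_normal_mem (hTS ha) hu.1, by
        show (a * u * a⁻¹) • x = x
        rw [mul_smul, mul_smul, hTx _ (inv_mem ha), show u • x = x from hu.2, hTx _ ha]⟩
    have hvv := mul_self_of_orderOf_two hv.1
    have hgen : ∀ a ∈ invSub T v, ∀ y ∈ S, a * y * a⁻¹ * y⁻¹ ∈ U := by
      intro a ha
      induction ha using closure_induction with
      | mem a ha =>
        intro y hy
        have hva : v * a ∈ invMap (G := G) x x := by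
          refine ⟨orderOf_eq_prime ?_ fun h1 => ?_, by rw [mul_smul, hTx a ha.1, hv.2]⟩
          · rw [sq, show v * a * (v * a) = v * a * v⁻¹ * (v * v) * a by group, hvv, mul_one, ha.2,
              inv_mul_cancel]
          · have ho := odd_orderOf_of_mem hTodd ha.1
            rw [eq_inv_of_mul_eq_one_right h1, orderOf_inv, hv.1] at ho
            norm_num at ho
        have hy1 : a * y * a⁻¹ ∈ S := conj_normal_mem (hTS ha.1) hy
        have h1 := key v hv hvS _ hy1
        have h2 := key (v * a) hva (mul_mem hvS (hTS ha.1)) y hy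
        have h3 := mul_mem h1 (inv_mem h2)
        rw [show a * y * a⁻¹ * y⁻¹ = a * y * a⁻¹ * (v * (a * y * a⁻¹) * v⁻¹) *
          (y * (v * a * y * (v * a)⁻¹))⁻¹ by group]
        exact h3
      | one => intro y _; simp
      | mul a b ha hb iha ihb =>
        intro y hy
        rw [show a * b * y * (a * b)⁻¹ * y⁻¹ =
          a * (b * y * b⁻¹) * a⁻¹ * (b * y * b⁻¹)⁻¹ * (b * y * b⁻¹ * y⁻¹) by group]
        exact mul_mem (iha _ (conj_normal_mem (hTS (invSub_le T v hb)) hy)) (ihb y hy)
      | inv a ha iha =>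
        intro y hy
        have h1 := iha (a⁻¹ * y * a) (conj_normal_mem' (hTS (invSub_le T v ha)) hy)
        have h2 := inv_mem h1
        rw [show a⁻¹ * y * a⁻¹⁻¹ * y⁻¹ =
          (a * (a⁻¹ * y * a) * a⁻¹ * (a⁻¹ * y * a)⁻¹)⁻¹ by group]
        exact h2
    have hc : Nat.card {y : G | y * g⁻¹ ∈ U} = Nat.card U :=
      Nat.card_congr ⟨fun y => ⟨_, y.2⟩,
        fun u => ⟨u * g, by rw [Set.mem_ofPred_eq, mul_inv_cancel_right]; exact u.2⟩,
        fun y => Subtype.ext (inv_mul_cancel_right _ _),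
        fun u => Subtype.ext (mul_inv_cancel_right _ _)⟩
    obtain ⟨c, hc', hcA⟩ := exists_fixed_conj (hT.to_le (invSub_le T v))
      (s := {y : G | y * g⁻¹ ∈ U})
      (hc ▸ fun hd => hSq (hd.trans (card_dvd_of_le inf_le_left))) fun a ha y hy => by
        have hyS : y ∈ S := by
          have := mul_mem hy.1 hg
          rwa [inv_mul_cancel_right] at this
        show a * y * a⁻¹ * g⁻¹ ∈ U
        rw [show a * y * a⁻¹ * g⁻¹ = a * y * a⁻¹ * y⁻¹ * (y * g⁻¹) by group]
        exact mul_mem (hgen a ha y hyS) hy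
    have hcS : c ∈ S := by
      have := mul_mem hc'.1 hg
      rwa [inv_mul_cancel_right] at this
    have h1 : (c * g⁻¹)⁻¹ • x = x := inv_smul_eq_iff.2 hc'.2.symm
    calc g • x = (c * g⁻¹)⁻¹ • c • x := by rw [smul_smul]; congr 1; group
      _ = x := by rw [hfix c hcS hcA, h1]

end CfsgLib.BenderWorld.R1Kill
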