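import Cfsg.Agent.BenderWorld.Defs
import Cfsg.Agent.BenderWorld.R1Kill.Odd

/-!
# The configuration argument: standing facts and the kill along a line

In the minimal counterexample without `Kill`, every local with a moved part of its odd core is
`IsR1`.  `Ctx.false_of_line`: a `q`-group `T` at `x`, an involution `v` at `x` and an element `n`
inverted by `v`, all normalizing `T`, with `T` Sylow in the pair stabilizers of the line of `n` and
`C([T,v])` in the stabilizer of two symmetric points fixing their midpoint, are impossible.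
-/

set_option autoImplicit false
set_option linter.style.haveILetI false
set_option linter.unusedSectionVars false

namespace CfsgLib.BenderWorld.R1Kill

open Subgroup CfsgLib.SEmbed CfsgLib.Small

variable {G : Type*} [Group G] [Finite G] {Ω : Type*} [MulAction G Ω] {q : ℕ}

/-- The standing hypotheses of the configuration argument. -/
structure Ctx (G : Type*) [Group G] (Ω : Type*) [MulAction G Ω] (q : ℕ) : Prop where
  W : World G Ω
  hR2 : ∀ M : Subgroup G, M ≠ ⊤ → ∀ a : Ω, IsR2 M a → ∀ v ∈ M, v ∈ invMap (G := G) a a →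
    (∃ o ∈ coreIn M, ¬ Commute o v) → Kill G Ω
  noKill : ¬ Kill G Ω
  q_prime : q.Prime
  q_ne : q ≠ 2

theorem coreIn_le (M : Subgroup G) : coreIn M ≤ M := map_subtype_le _

theorem le_normalizer_coreIn (M : Subgroup G) : M ≤ normalizer (coreIn M : Set G) :=
  le_normalizer.trans (CfsgLib.Components.normalizer_le_normalizer_map_subtype M _)

theorem normalizer_le_normalizer_coreIn (M : Subgroup G) :
    normalizer (M : Set G) ≤ normalizer (coreIn M : Set G) :=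
  CfsgLib.Components.normalizer_le_normalizer_map_subtype M _

theorem odd_coreIn (M : Subgroup G) : Odd (Nat.card (coreIn M)) := by
  rw [coreIn, card_map_of_injective M.subtype_injective]
  exact Nat.coprime_two_right.1 (CfsgLib.PLocal.coprime_card_pPrimeCore 2 ↥M)

theorem le_coreIn {M N : Subgroup G} (hNM : N ≤ M) (hMN : M ≤ normalizer (N : Set G))
    (hN : Odd (Nat.card N)) : N ≤ coreIn M := by
  haveI : Fact (Nat.Prime 2) := ⟨Nat.prime_two⟩
  exact le_primeCoreIn_of_normal hNM hMN hN.not_two_dvd_nat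

theorem odd_of_isPGroup (hq : q.Prime) (hq2 : q ≠ 2) {T : Subgroup G} (hT : IsPGroup q T) :
    Odd (Nat.card T) := by
  haveI := Fact.mk hq
  obtain ⟨k, hk⟩ := IsPGroup.iff_card.1 hT
  exact hk ▸ (hq.odd_of_ne_two hq2).pow

theorem conj_fix {g x : G} {a : Ω} (h : x • g⁻¹ • a = g⁻¹ • a) : (g * x * g⁻¹) • a = a := by
  rw [mul_smul, mul_smul, h, smul_inv_smul]

theorem mem_normalizer_pairStab {g : G} {a b : Ω}
    (h : (g • a = a ∧ g • b = b) ∨ (g • a = b ∧ g • b = a)) :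
    g ∈ normalizer (pairStab G a b : Set G) := by
  refine mem_normalizer_of_conj fun x hx => ?_
  obtain ⟨ha, hb⟩ := mem_pairStab.1 hx
  refine mem_pairStab.2 ?_
  rcases h with ⟨h1, h2⟩ | ⟨h1, h2⟩
  · exact ⟨conj_fix (by rw [inv_smul_eq_iff.2 h1.symm, ha]),
      conj_fix (by rw [inv_smul_eq_iff.2 h2.symm, hb])⟩
  · exact ⟨conj_fix (by rw [inv_smul_eq_iff.2 h2.symm, hb]),
      conj_fix (by rw [inv_smul_eq_iff.2 h1.symm, ha])⟩

namespace Ctx

variable (c : Ctx G Ω q)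
include c

theorem odd_pairStab {a b : Ω} (hab : a ≠ b) : Odd (Nat.card (pairStab G a b)) := by
  rw [← Nat.not_even_iff_odd]
  intro he
  obtain ⟨i, hi, hio⟩ := exists_invol_mem he
  exact hab (c.W.uf.unique i hio a b hi.1 hi.2)

theorem exists_ne_point (a : Ω) : ∃ b : Ω, b ≠ a := haveI := c.W.nontrivial; exists_ne a

theorem normalizer_ne_top {T : Subgroup G} {a : Ω} (hT : T ≠ ⊥) (hTa : ∀ t ∈ T, t • a = a) :
    normalizer (T : Set G) ≠ ⊤ := by
  intro htop
  haveI := c.W.simple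
  haveI : T.Normal := normalizer_eq_top_iff.1 htop
  rcases IsSimpleGroup.eq_bot_or_eq_top_of_normal T inferInstance with h | h
  · exact hT h
  · obtain ⟨b, hb⟩ := c.exists_ne_point a
    obtain ⟨g, hg⟩ := c.W.uf.transitive a b
    exact hb (hg ▸ hTa g (h ▸ mem_top g))

/-- Without `Kill`, a local with a moved part of its odd core is `IsR1`. -/
theorem r1 {M : Subgroup G} (hM : M ≠ ⊤) {v : G} {a : Ω} (hv : v ∈ invMap (G := G) a a)
    (hvM : v ∈ M) (hmov : ∃ g ∈ M, g • a ≠ a) (ho : ∃ o ∈ coreIn M, ¬ Commute o v) : IsR1 M :=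
  (c.W.ih M hM a ⟨v, hvM, hv.1, hv.2⟩ hmov).resolve_right fun h2 =>
    c.noKill (c.hR2 M hM a h2 v hvM hv ho)

theorem exists_inverted_moving {F : Subgroup G} (hF : Odd (Nat.card F)) {v : G} {a : Ω}
    (hv : v ∈ invMap (G := G) a a) (hvF : v ∈ normalizer (F : Set G))
    (hmov : ∃ g ∈ F, g • a ≠ a) : ∃ n ∈ F, v * n * v⁻¹ = n⁻¹ ∧ n • a ≠ a := by
  obtain ⟨g, hg, hga⟩ := hmov
  obtain ⟨w, hw, d, -, hwv, hdv, rfl⟩ :=
    exists_decomp hF (mul_self_of_orderOf_two hv.1) hvF hg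
  exact ⟨w, hw, hwv, fun h => hga (by rw [mul_smul, commute_fix c.W.uf hv.1 hdv hv.2, h])⟩

theorem invert_smul {v n : G} {a : Ω} (hv : v ∈ invMap (G := G) a a)
    (hn : v * n * v⁻¹ = n⁻¹) : v • n • a = n⁻¹ • a := by
  rw [← hn, mul_smul, mul_smul, inv_smul_eq_iff.2 hv.2.symm]

/-- The involution at `r • a` mapping `a` to `(r * r) • a`. -/
theorem midpoint {v r : G} {a : Ω} (hv : v ∈ invMap (G := G) a a) (hr : v * r * v⁻¹ = r⁻¹) :
    r * v * r⁻¹ ∈ invMap (G := G) (r • a) (r • a) ∧ (r * v * r⁻¹) • a = (r * r) • a := by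
  refine ⟨⟨(orderOf_conj_eq r v).trans hv.1, ?_⟩, ?_⟩
  · rw [mul_smul, inv_smul_smul, mul_smul, hv.2]
  · have h := conj_pow_inv hr 1
    rw [pow_one] at h
    have h2 : v * r⁻¹ * v⁻¹ = r := by
      rw [show v * r⁻¹ * v⁻¹ = (v * r * v⁻¹)⁻¹ by group, h, inv_inv]
    rw [show r * v * r⁻¹ = r * (v * r⁻¹ * v⁻¹) * v by group, h2, mul_smul, hv.2]

theorem inverted_mem_core {M : Subgroup G} (hM : IsR1 M) {v d : G} (hv : orderOf v = 2)
    (hvM : v ∈ M) (hdM : d ∈ M) (hd : v * d * v⁻¹ = d⁻¹) (hodd : Odd (orderOf d)) :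
    d ∈ coreIn M := by
  obtain ⟨o, ho, e, -, hev, hde⟩ := hM v hvM hv d hdM
  obtain ⟨k, hk⟩ := exists_sqrt hodd
  have h2 : d ^ 2 ∈ coreIn M := by
    rw [show d ^ 2 = d * (v * d * v⁻¹)⁻¹ by rw [hd, inv_inv, sq], hde,
      show o * e * (v * (o * e) * v⁻¹)⁻¹ = o * (e * v * e⁻¹) * o⁻¹ * v⁻¹ by group,
      conj_eq_of_commute hev, show o * v * o⁻¹ * v⁻¹ = o * (v * o⁻¹ * v⁻¹) by group]
    exact mul_mem ho (conj_normal_mem (le_normalizer_coreIn M hvM) (inv_mem ho))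
  rw [← hk, ← pow_mul, mul_comm, pow_mul]
  exact pow_mem h2 k

theorem core_moves {M : Subgroup G} (hM : IsR1 M) {v : G} {a : Ω} (hv : v ∈ invMap (G := G) a a)
    (hvM : v ∈ M) (hmov : ∃ g ∈ M, g • a ≠ a) : ∃ g ∈ coreIn M, g • a ≠ a := by
  obtain ⟨g, hg, hga⟩ := hmov
  obtain ⟨o, ho, e, -, hev, rfl⟩ := hM v hvM hv.1 g hg
  exact ⟨o, ho, fun h => hga (by rw [mul_smul, commute_fix c.W.uf hv.1 hev hv.2, h])⟩

/-- **Kill along a line.** -/
theorem false_of_line {T : Subgroup G} {x : Ω} {v n : G} (hT : IsPGroup q T) (hT1 : T ≠ ⊥)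
    (hTx : ∀ t ∈ T, t • x = x) (hv : v ∈ invMap (G := G) x x)
    (hvT : v ∈ normalizer (T : Set G)) (hnT : n ∈ normalizer (T : Set G))
    (hnv : v * n * v⁻¹ = n⁻¹) (hnx : n • x ≠ x) (hodd : Odd (orderOf n))
    (hsyl : ∀ m ∈ zpowers n, m • x ≠ x → ∀ R : Subgroup G, IsPGroup q R → T ≤ R →
      R ≤ pairStab G x (m • x) → R = T)
    (hfix : ∀ m ∈ zpowers n, m • x ≠ x → ∀ g ∈ pairStab G (m⁻¹ • x) (m • x),
      (∀ a ∈ invSub T v, Commute a g) → g • x = x) : False := by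
  classical
  haveI := Fact.mk c.q_prime
  have hqodd := odd_of_isPGroup c.q_prime c.q_ne hT
  have hinv : ∀ m ∈ zpowers n, v * m * v⁻¹ = m⁻¹ := fun m hm => by
    obtain ⟨k, rfl⟩ := mem_zpowers_iff.1 hm
    rw [← conj_zpow, hnv, inv_zpow]
  have hsq : ∀ m ∈ zpowers n, ∃ r ∈ zpowers n, r * r = m := fun m hm => by
    obtain ⟨k, hk⟩ := exists_sqrt (m := m) (hodd.of_dvd_nat (orderOf_dvd_of_mem_zpowers hm))
    exact ⟨m ^ k, pow_mem hm k, (sq (m ^ k)).symm.trans hk⟩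
  have hTm : ∀ m ∈ zpowers n, ∀ t ∈ T, t • m • x = m • x := fun m hm t ht => by
    have h1 : m⁻¹ * t * m ∈ T := conj_normal_mem' ((zpowers_le.2 hnT) hm) ht
    calc t • m • x = m • (m⁻¹ * t * m) • x := by
          rw [smul_smul, smul_smul]; congr 1; group
      _ = m • x := by rw [hTx _ h1]
  have hne : ∀ m ∈ zpowers n, m • x ≠ x → m⁻¹ • x ≠ m • x := fun m hm hmx h => by
    apply hmx
    obtain ⟨k, hk⟩ := exists_sqrt (m := m) (hodd.of_dvd_nat (orderOf_dvd_of_mem_zpowers hm))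
    have h2 : m ^ 2 ∈ MulAction.stabilizer G x :=
      (by rw [sq, mul_smul, ← h, smul_inv_smul] : (m ^ 2) • x = x)
    have h3 := pow_mem h2 k
    rw [← pow_mul, mul_comm, pow_mul, hk] at h3
    exact h3
  -- the largest core over the symmetric pairs
  obtain ⟨m, ⟨hm, hmx⟩, hmax⟩ := Set.exists_max_image {m : G | m ∈ zpowers n ∧ m • x ≠ x}
    (fun m => Nat.card (primeCoreIn q (pairStab G (m⁻¹ • x) (m • x)))) (Set.toFinite _)
    ⟨n, mem_zpowers n, hnx⟩
  set D := pairStab G (m⁻¹ • x) (m • x) with hD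
  set K := primeCoreIn q D with hK
  have hTD : T ≤ D := fun t ht => mem_pairStab.2
    ⟨hTm _ (inv_mem hm) t ht, hTm _ hm t ht⟩
  have hDodd : Odd (Nat.card D) := c.odd_pairStab (hne m hm hmx)
  have hvD : v ∈ normalizer (D : Set G) := by
    refine mem_normalizer_pairStab (Or.inr ⟨?_, c.invert_smul hv (hinv m hm)⟩)
    rw [c.invert_smul hv (hinv _ (inv_mem hm)), inv_inv]
  have hvK : v ∈ normalizer (K : Set G) := normalizer_le_normalizer_primeCoreIn q D hvD
  have hKx : ∀ g ∈ K, g • x = x :=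
    le_stab_of_fixed c.W.uf hv hT hqodd hTx K (hDodd.of_dvd_nat (card_dvd_of_le (primeCoreIn_le q D)))
      (not_dvd_primeCoreIn D) hvK (hTD.trans (le_normalizer_primeCoreIn q D))
      fun g hg hga => hfix m hm hmx g (primeCoreIn_le q D hg) hga
  set D' := pairStab G x (m • x) with hD'
  have hD'odd : Odd (Nat.card D') := c.odd_pairStab (Ne.symm hmx)
  have hTD' : T ≤ D' := fun t ht => mem_pairStab.2 ⟨hTx t ht, hTm _ hm t ht⟩
  have hKD' : K ≤ D' := fun g hg =>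
    mem_pairStab.2 ⟨hKx g hg, (mem_pairStab.1 (primeCoreIn_le q D hg)).2⟩
  have hKle : K ≤ primeCoreIn q D' :=
    le_primeCoreIn hD'odd hTD' hT (fun R hR h1 h2 => hsyl m hm hmx R hR h1 h2) hKD'
      (hTD.trans (le_normalizer_primeCoreIn q D)) (not_dvd_primeCoreIn D)
  -- the midpoint of `x` and `m • x`
  obtain ⟨r, hr, hrr⟩ := hsq m hm
  have hrx : r • x ≠ x := fun h => hmx (by rw [← hrr, mul_smul, h, h])
  have hDr : D'.map (MulAut.conj r⁻¹).toMonoidHom = pairStab G (r⁻¹ • x) (r • x) := by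
    ext g
    constructor
    · rintro ⟨y, hy, rfl⟩
      obtain ⟨h1, h2⟩ := mem_pairStab.1 hy
      refine mem_pairStab.2 ⟨?_, ?_⟩
      · show (r⁻¹ * y * r⁻¹⁻¹) • r⁻¹ • x = r⁻¹ • x
        rw [inv_inv, mul_smul, mul_smul, smul_inv_smul, h1]
      · show (r⁻¹ * y * r⁻¹⁻¹) • r • x = r • x
        rw [inv_inv, mul_smul, mul_smul, ← mul_smul r r, hrr, h2, ← hrr, ← mul_smul,
          inv_mul_cancel_left]
    · intro hg
      obtain ⟨h1, h2⟩ := mem_pairStab.1 hg
      refine ⟨r * g * r⁻¹, mem_pairStab.2 ⟨conj_fix h1, ?_⟩, ?_⟩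
      · rw [← hrr, mul_smul, mul_smul, mul_smul, inv_smul_smul, h2]
      · show r⁻¹ * (r * g * r⁻¹) * r⁻¹⁻¹ = g
        group
  have hcard : Nat.card (primeCoreIn q D') ≤ Nat.card K :=
    (card_primeCoreIn_conj hDr).trans (hmax r ⟨hr, hrx⟩)
  have hKeq : K = primeCoreIn q D' := eq_of_le_of_card_ge hKle hcard
  set s := r * v * r⁻¹ with hs
  obtain ⟨hsr, hsx⟩ := c.midpoint hv (hinv r hr)
  rw [hrr] at hsx
  have hsD' : s ∈ normalizer (D' : Set G) :=
    mem_normalizer_pairStab (Or.inr ⟨hsx, smul_back hsr.1 hsx⟩)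
  have hsT : s ∈ normalizer (T : Set G) :=
    mul_mem (mul_mem ((zpowers_le.2 hnT) hr) hvT) (inv_mem ((zpowers_le.2 hnT) hr))
  -- a proper subgroup containing the pair stabilizer and two centres
  obtain ⟨X, hX1, hXx, hD'X, hvX, hsX⟩ : ∃ X : Subgroup G, X ≠ ⊥ ∧ (∀ g ∈ X, g • x = x) ∧
      D' ≤ normalizer (X : Set G) ∧ v ∈ normalizer (X : Set G) ∧
      s ∈ normalizer (X : Set G) := by
    by_cases hbot : K = ⊥
    · refine ⟨Cfsg.centerThompsonAOf T, CfsgLib.PLocal.centerThompsonAOf_ne_bot hT hT1,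
        fun g hg => hTx g (CfsgLib.PLocal.centerThompsonAOf_le T hg), ?_,
        CfsgLib.PLocal.normalizer_le_normalizer_centerThompsonAOf T hvT,
        CfsgLib.PLocal.normalizer_le_normalizer_centerThompsonAOf T hsT⟩
      exact le_normalizer_zj c.q_ne hD'odd hTD' hT (fun R hR h1 h2 => hsyl m hm hmx R hR h1 h2)
        (hKeq ▸ hbot)
    · refine ⟨K, hbot, hKx, ?_, hvK, ?_⟩
      · rw [hKeq]; exact le_normalizer_primeCoreIn q D'
      · rw [hKeq]; exact normalizer_le_normalizer_primeCoreIn q D' hsD'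
  refine c.noKill ⟨_, c.normalizer_ne_top hX1 hXx, x, m • x, Ne.symm hmx, hD'X, ⟨v, hvX, hv⟩,
    s, hsX, ?_⟩
  rw [hsx]
  exact hmx

end Ctx

end CfsgLib.BenderWorld.R1Kill
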